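import Cfsg.Agent.Unitary.Form

/-!
# Two by two unitary matrices, in orthonormal and in isotropic coordinates
-/

set_option autoImplicit false
set_option linter.unusedSectionVars false

namespace Cfsg.Agent.H68.UThree.Model

open Matrix Cfsg Cfsg.Agent.Unitary

variable {F : Type*} [Field F] [Fintype F] {q : ℕ} (hF : Fintype.card F = q ^ 2)

local notation "M2" => Matrix (Fin 2) (Fin 2) F

/-- The entrywise power. -/
def cm (q : ℕ) (M : M2) : M2 := M.map fun x => x ^ q

include hF in
theorem cm_mul (M N : M2) : cm q (M * N) = cm q M * cm q N :=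
  Matrix.map_mul (f := ((frob hF : F ≃+* F) : F →+* F))

include hF in
theorem cm_one : cm q (1 : M2) = 1 :=
  Matrix.map_one _ (zero_pow (q_ne_zero hF)) (one_pow q)

theorem cm_fin_two (a b c d : F) : cm q !![a, b; c, d] = !![a ^ q, b ^ q; c ^ q, d ^ q] := by
  ext i j; fin_cases i <;> fin_cases j <;> simp [cm]

theorem transpose_fin_two (a b c d : F) : (!![a, b; c, d] : M2)ᵀ = !![a, c; b, d] := by
  ext i j; fin_cases i <;> fin_cases j <;> rfl

theorem eq_fin_two (M : M2) : M = !![M 0 0, M 0 1; M 1 0, M 1 1] := by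
  ext i j; fin_cases i <;> fin_cases j <;> rfl

theorem fin_two_inj {a b c d a' b' c' d' : F} :
    (!![a, b; c, d] : M2) = !![a', b'; c', d'] ↔ a = a' ∧ b = b' ∧ c = c' ∧ d = d' := by
  constructor
  · intro h
    exact ⟨by simpa using congrFun (congrFun h 0) 0, by simpa using congrFun (congrFun h 0) 1,
      by simpa using congrFun (congrFun h 1) 0, by simpa using congrFun (congrFun h 1) 1⟩
  · rintro ⟨rfl, rfl, rfl, rfl⟩; rfl

include hF in
/-- Orthonormal columns. -/
theorem preserves_fin_two {a b c d : F} :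
    Preserves q (!![a, b; c, d] : M2) ↔
      a * a ^ q + c * c ^ q = 1 ∧ a * b ^ q + c * d ^ q = 0 ∧
      b * a ^ q + d * c ^ q = 0 ∧ b * b ^ q + d * d ^ q = 1 := by
  rw [preserves_iff_transpose_mul hF]
  show (!![a, b; c, d] : M2)ᵀ * cm q !![a, b; c, d] = 1 ↔ _
  rw [transpose_fin_two, cm_fin_two, Matrix.mul_fin_two, Matrix.one_fin_two, fin_two_inj]

include hF in
theorem preserves_mul {M N : M2} (hM : Preserves q M) (hN : Preserves q N) :
    Preserves q (M * N) := by
  intro u v
  rw [← Matrix.mulVec_mulVec, ← Matrix.mulVec_mulVec, hM, hN]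

include hF in
theorem preserves_one : Preserves q (1 : M2) := by
  intro u v; rw [Matrix.one_mulVec, Matrix.one_mulVec]

include hF in
theorem preserves_smul {M : M2} (hM : Preserves q M) {c : F} (hc : c * c ^ q = 1) :
    Preserves q (c • M) := by
  intro u v
  rw [Matrix.smul_mulVec, Matrix.smul_mulVec, herm_smul_left, herm_smul_right, ← mul_assoc, hc,
    one_mul, hM]

include hF in
theorem preserves_diag {a b : F} (ha : a * a ^ q = 1) (hb : b * b ^ q = 1) :
    Preserves q (!![a, 0; 0, b] : M2) := by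
  rw [preserves_fin_two hF, zero_pow (q_ne_zero hF)]
  exact ⟨by simp [ha], by simp, by simp, by simp [hb]⟩

include hF in
theorem preserves_swap : Preserves q (!![0, 1; 1, 0] : M2) := by
  rw [preserves_fin_two hF, zero_pow (q_ne_zero hF), one_pow]
  exact ⟨by simp, by simp, by simp, by simp⟩

include hF in
/-- A unitary matrix with a zero off the diagonal is diagonal. -/
theorem diag_of_zero {a b c d : F} (h : Preserves q (!![a, b; c, d] : M2))
    (h0 : b = 0 ∨ c = 0) : b = 0 ∧ c = 0 := by
  obtain ⟨h1, h2, h3, h4⟩ := (preserves_fin_two hF).1 h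
  rcases h0 with rfl | rfl
  · refine ⟨rfl, ?_⟩
    rw [zero_mul, zero_add] at h4
    rw [zero_mul, zero_add, mul_eq_zero] at h3
    rcases h3 with h3 | h3
    · rw [h3, zero_mul] at h4; exact absurd h4 zero_ne_one
    · exact (pow_q_eq_zero_iff hF).1 h3
  · refine ⟨?_, rfl⟩
    rw [zero_mul, add_zero] at h1
    rw [zero_mul, add_zero, mul_eq_zero] at h2
    rcases h2 with h2 | h2
    · rw [h2, zero_mul] at h1; exact absurd h1 zero_ne_one
    · exact (pow_q_eq_zero_iff hF).1 h2

include hF in
/-- A unitary matrix with a zero on the diagonal is antidiagonal. -/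
theorem anti_of_zero {a b c d : F} (h : Preserves q (!![a, b; c, d] : M2))
    (h0 : a = 0 ∨ d = 0) : a = 0 ∧ d = 0 := by
  have h' := preserves_mul hF (preserves_swap hF) h
  rw [Matrix.mul_fin_two] at h'
  simp only [zero_mul, one_mul, add_zero, zero_add] at h'
  obtain ⟨e1, e2⟩ := diag_of_zero hF h' h0.symm
  exact ⟨e2, e1⟩

/-- The form in isotropic coordinates. -/
def jm : M2 := !![0, 1; 1, 0]

/-- Unitary in isotropic coordinates. -/
def IsoP (q : ℕ) (A : M2) : Prop := Aᵀ * jm * cm q A = jm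

theorem isoP_fin_two {a b c d : F} :
    IsoP q (!![a, b; c, d] : M2) ↔
      c * a ^ q + a * c ^ q = 0 ∧ c * b ^ q + a * d ^ q = 1 ∧
      d * a ^ q + b * c ^ q = 1 ∧ d * b ^ q + b * d ^ q = 0 := by
  unfold IsoP jm
  rw [transpose_fin_two, cm_fin_two, Matrix.mul_fin_two, Matrix.mul_fin_two, fin_two_inj]
  simp only [mul_zero, mul_one, zero_add, add_zero]

/-- An element of norm minus one. -/
noncomputable def om : F := (exists_norm_eq_neg_one hF).choose

theorem om_norm : om hF * om hF ^ q = -1 := (exists_norm_eq_neg_one hF).choose_spec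

theorem om_ne : om hF ≠ 0 := fun h => by
  have := om_norm hF
  rw [h, zero_mul] at this
  exact one_ne_zero (neg_eq_zero.1 this.symm)

/-- Isotropic basis. -/
noncomputable def pm : M2 := !![1, 1; om hF, -om hF]

/-- Its inverse. -/
noncomputable def qm : M2 := !![2⁻¹, 2⁻¹ / om hF; 2⁻¹, -(2⁻¹ / om hF)]

variable (hq : Odd q)

include hF hq in
theorem two_ne : (2 : F) ≠ 0 := by
  intro h
  obtain ⟨a, ha⟩ := hq
  have h0 := natCast_q_eq_zero hF
  rw [ha] at h0
  push_cast at h0
  rw [h, zero_mul, zero_add] at h0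
  exact one_ne_zero h0

include hq in
theorem pm_qm : pm hF * qm hF = (1 : M2) := by
  have h2 := two_ne hF hq
  have := om_ne hF
  unfold pm qm
  rw [Matrix.mul_fin_two, Matrix.one_fin_two, fin_two_inj]
  refine ⟨?_, ?_, ?_, ?_⟩ <;> field_simp <;> ring

include hq in
theorem qm_pm : qm hF * pm hF = (1 : M2) := mul_eq_one_comm.1 (pm_qm hF hq)

theorem pm_form : (pm hF)ᵀ * cm q (pm hF) = (2 : F) • jm := by
  unfold pm jm
  rw [transpose_fin_two, cm_fin_two, Matrix.mul_fin_two, neg_pow_q hF, one_pow,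
    show (2 : F) • (!![0, 1; 1, 0] : M2) = !![0, 2; 2, 0] by
      ext i j; fin_cases i <;> fin_cases j <;> simp]
  rw [fin_two_inj]
  have := om_norm hF
  refine ⟨?_, ?_, ?_, ?_⟩
  · rw [one_mul, this]; ring
  · rw [one_mul, mul_neg, this]; ring
  · rw [one_mul, neg_mul, this]; ring
  · rw [one_mul, neg_mul_neg, this]; ring

/-- From isotropic to orthonormal coordinates. -/
noncomputable def toON (A : M2) : M2 := pm hF * A * qm hF

/-- From orthonormal to isotropic coordinates. -/
noncomputable def toIso (M : M2) : M2 := qm hF * M * pm hF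

include hq in
theorem toON_mul (A B : M2) : toON hF (A * B) = toON hF A * toON hF B := by
  simp only [toON, Matrix.mul_assoc]
  rw [← Matrix.mul_assoc (qm hF) (pm hF), qm_pm hF hq, Matrix.one_mul]

include hq in
theorem toON_toIso (M : M2) : toON hF (toIso hF M) = M := by
  simp only [toON, toIso, Matrix.mul_assoc]
  rw [pm_qm hF hq, Matrix.mul_one, ← Matrix.mul_assoc, pm_qm hF hq, Matrix.one_mul]

include hq in
theorem toIso_toON (A : M2) : toIso hF (toON hF A) = A := by
  simp only [toON, toIso, Matrix.mul_assoc]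
  rw [qm_pm hF hq, Matrix.mul_one, ← Matrix.mul_assoc, qm_pm hF hq, Matrix.one_mul]

include hq in
theorem toON_smul (c : F) (A : M2) : toON hF (c • A) = c • toON hF A := by
  simp [toON, Matrix.mul_smul, Matrix.smul_mul]

include hq in
theorem toON_one : toON hF (1 : M2) = 1 := by
  rw [toON, Matrix.mul_one, pm_qm hF hq]

include hq in
theorem preserves_toON {A : M2} : Preserves q (toON hF A) ↔ IsoP q A := by
  have h2 := two_ne hF hq
  rw [preserves_iff_transpose_mul hF]
  show (toON hF A)ᵀ * cm q (toON hF A) = 1 ↔ _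
  have key : (toON hF A)ᵀ * cm q (toON hF A) =
      (2 : F) • ((qm hF)ᵀ * (Aᵀ * jm * cm q A) * cm q (qm hF)) := by
    rw [toON, Matrix.transpose_mul, Matrix.transpose_mul, cm_mul hF, cm_mul hF]
    calc (qm hF)ᵀ * (Aᵀ * (pm hF)ᵀ) * (cm q (pm hF) * cm q A * cm q (qm hF))
        = (qm hF)ᵀ * (Aᵀ * ((pm hF)ᵀ * cm q (pm hF)) * cm q A) * cm q (qm hF) := by
          simp only [Matrix.mul_assoc]
      _ = _ := by rw [pm_form hF]; simp [Matrix.mul_smul, Matrix.smul_mul]
  have hone : (2 : F) • ((qm hF)ᵀ * jm * cm q (qm hF)) = 1 := by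
    rw [← Matrix.smul_mul, ← Matrix.mul_smul, ← pm_form hF, ← Matrix.mul_assoc,
      ← Matrix.transpose_mul, Matrix.mul_assoc, ← cm_mul hF, pm_qm hF hq, Matrix.transpose_one,
      cm_one hF, Matrix.one_mul]
  rw [key]
  constructor
  · intro h
    have h' : (qm hF)ᵀ * (Aᵀ * jm * cm q A) * cm q (qm hF) = (qm hF)ᵀ * jm * cm q (qm hF) :=
      smul_right_injective M2 h2 (h.trans hone.symm)
    have h'' := congrArg (fun M => (pm hF)ᵀ * M * cm q (pm hF)) h'
    have e1 : (pm hF)ᵀ * (qm hF)ᵀ = 1 := by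
      rw [← Matrix.transpose_mul, qm_pm hF hq, Matrix.transpose_one]
    have e2 : cm q (qm hF) * cm q (pm hF) = 1 := by rw [← cm_mul hF, qm_pm hF hq, cm_one hF]
    have e : ∀ M : M2, (pm hF)ᵀ * ((qm hF)ᵀ * M * cm q (qm hF)) * cm q (pm hF) = M := fun M => by
      rw [← Matrix.mul_assoc, ← Matrix.mul_assoc, e1, Matrix.one_mul, Matrix.mul_assoc, e2,
        Matrix.mul_one]
    simp only [e] at h''
    exact h''
  · intro h
    rw [show Aᵀ * jm * cm q A = jm from h, hone]

end Cfsg.Agent.H68.UThree.Model
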