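import Cfsg.Agent.H68.UThree.Model.Lift
import Cfsg.Agent.Unitary.Order

/-!
# The subgroups `K`, `X`, `Hb`, `D` and their orders
-/

set_option autoImplicit false
set_option linter.unusedSectionVars false
set_option linter.style.haveILetI false

namespace Cfsg.Agent.H68.UThree.Model

open Matrix Cfsg Cfsg.Agent.Unitary

universe u v

variable {F : Type v} [Field F] [Fintype F] {q : ℕ}

local notation "M2" => Matrix (Fin 2) (Fin 2) F

/-- Diagonal matrices. -/
def dg (a b : F) : M2 := !![a, 0; 0, b]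

/-- The unipotent matrices (isotropic coordinates). -/
def up (c : F) : M2 := !![1, c; 0, 1]

/-- The torus (isotropic coordinates). -/
def tor (q : ℕ) (x : F) : M2 := !![x, 0; 0, (x ^ q)⁻¹]

theorem dg_mul (a b a' b' : F) : dg a b * dg a' b' = dg (a * a') (b * b') := by
  simp [dg, Matrix.mul_fin_two]

theorem dg_self (a : F) : dg a a = a • (1 : M2) := by
  ext i j; fin_cases i <;> fin_cases j <;> simp [dg]

theorem smul_dg (c a b : F) : c • dg a b = dg (c * a) (c * b) := by
  ext i j; fin_cases i <;> fin_cases j <;> simp [dg]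

theorem dg_inj {a b a' b' : F} : dg a b = dg a' b' ↔ a = a' ∧ b = b' := by
  unfold dg
  rw [fin_two_inj]
  exact ⟨fun h => ⟨h.1, h.2.2.2⟩, fun h => ⟨h.1, rfl, rfl, h.2⟩⟩

theorem up_mul (a b : F) : up a * up b = up (a + b) := by
  simp [up, Matrix.mul_fin_two, add_comm]

theorem tor_mul (x y : F) : tor q (x * y) = tor q x * tor q y := by
  simp [tor, Matrix.mul_fin_two, mul_pow, mul_inv, mul_comm]

theorem tor_one : tor q (1 : F) = 1 := by simp [tor, Matrix.one_fin_two]

theorem tor_norm_one {c : F} (hc : c * c ^ q = 1) : tor q c = c • (1 : M2) := by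
  rw [← dg_self]; unfold tor dg; rw [fin_two_inj]
  exact ⟨rfl, rfl, rfl, (eq_inv_of_mul_eq_one_left hc).symm⟩

variable (hF : Fintype.card F = q ^ 2)
include hF

theorem preserves_dg {a b : F} (ha : a * a ^ q = 1) (hb : b * b ^ q = 1) :
    Preserves q (dg a b) := preserves_diag hF ha hb

theorem isoP_up {c : F} (hc : c + c ^ q = 0) : IsoP q (up c) := by
  unfold up
  rw [isoP_fin_two, zero_pow (q_ne_zero hF), one_pow]
  exact ⟨by ring, by ring, by ring, by linear_combination hc⟩

theorem isoP_tor {x : F} (hx : x ≠ 0) : IsoP q (tor q x) := by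
  unfold tor
  rw [isoP_fin_two, zero_pow (q_ne_zero hF), inv_pow, pow_q_q hF]
  refine ⟨by simp, ?_, ?_, by simp⟩
  · rw [mul_inv_cancel₀ hx]; simp
  · rw [inv_mul_cancel₀ (pow_ne_zero q hx)]; simp

theorem isoP_jm : IsoP q (jm : M2) := by
  unfold jm
  rw [isoP_fin_two, zero_pow (q_ne_zero hF), one_pow]
  exact ⟨by simp, by simp, by simp, by simp⟩

/-- The skew elements. -/
noncomputable def trHom : F →+ F where
  toFun x := x + x ^ q
  map_zero' := by simp [zero_pow (q_ne_zero hF)]
  map_add' x y := by rw [add_pow_q hF]; ring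

theorem card_skew : Nat.card (trHom hF).ker = q := by
  classical
  have h2 := two_le_q hF
  have key : ∀ (S : Finset F) (P : Polynomial F), P.natDegree = q → (∀ x ∈ S, P.eval x = 0) →
      S.card ≤ q := fun S P hP hS => by
    have hP0 : P ≠ 0 := fun e => by rw [e, Polynomial.natDegree_zero] at hP; omega
    calc S.card ≤ P.roots.toFinset.card := Finset.card_le_card fun x hx => by
          rw [Multiset.mem_toFinset, Polynomial.mem_roots hP0]; exact hS x hx
      _ ≤ P.roots.card := P.roots.toFinset_card_le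
      _ ≤ P.natDegree := Polynomial.card_roots' P
      _ = q := hP
  haveI : Fintype (trHom hF).ker := Fintype.ofFinite _
  haveI : Fintype (trHom hF).range := Fintype.ofFinite _
  have hk : Fintype.card (trHom hF).ker ≤ q := by
    rw [← Finset.card_univ, ← Finset.card_map (Function.Embedding.subtype (fun x => x ∈ (trHom hF).ker))
      (s := Finset.univ)]
    refine key _ (Polynomial.X ^ q + Polynomial.X) ?_ fun x hx => ?_
    · rw [Polynomial.natDegree_add_eq_left_of_natDegree_lt] <;> simp <;> omega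
    · simp only [Finset.mem_map, Finset.mem_univ, true_and] at hx
      obtain ⟨⟨y, hy⟩, rfl⟩ := hx
      have h : y + y ^ q = 0 := hy
      simp [add_comm (y ^ q), h]
  have hr : Fintype.card (trHom hF).range ≤ q := by
    rw [← Finset.card_univ, ← Finset.card_map (Function.Embedding.subtype (fun x => x ∈ (trHom hF).range))
      (s := Finset.univ)]
    refine key _ (Polynomial.X ^ q - Polynomial.X) ?_ fun x hx => ?_
    · rw [Polynomial.natDegree_sub_eq_left_of_natDegree_lt] <;> simp <;> omega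
    · simp only [Finset.mem_map, Finset.mem_univ, true_and] at hx
      obtain ⟨⟨-, y, rfl⟩, rfl⟩ := hx
      show ((Polynomial.X : Polynomial F) ^ q - Polynomial.X).eval (y + y ^ q) = 0
      simp [trace_pow_q hF]
  have hmul : Fintype.card (trHom hF).range * Fintype.card (trHom hF).ker = q * q := by
    have h1 := AddSubgroup.index_ker (trHom hF)
    have h3 := (trHom hF).ker.index_mul_card
    rw [h1, Nat.card_eq_fintype_card, Nat.card_eq_fintype_card, Nat.card_eq_fintype_card, hF,
      pow_two] at h3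
    exact h3
  rw [Nat.card_eq_fintype_card]
  by_contra hne
  have hlt : Fintype.card (trHom hF).ker < q := lt_of_le_of_ne hk hne
  have := Nat.mul_le_mul_right (Fintype.card (trHom hF).ker) hr
  have h4 := Nat.mul_lt_mul_of_pos_left hlt (show 0 < q by omega)
  omega

variable {G : Type u} [Group G] (π : GU 2 F q →* G) (hq : Odd q)
include hq

/-- `λ ↦` its torus element. -/
noncomputable def torHom : Fˣ →* G where
  toFun x := elJ hF π (tor q (x : F))
  map_one' := by rw [Units.val_one, tor_one, elJ_one hq]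
  map_mul' x y := by
    rw [Units.val_mul, tor_mul, elJ_mul hq (isoP_tor hF x.ne_zero) (isoP_tor hF y.ne_zero)]

/-- `c ↦` its unipotent element. -/
noncomputable def upHom : Multiplicative (trHom hF).ker →* G where
  toFun c := elJ hF π (up ((Multiplicative.toAdd c : (trHom hF).ker) : F))
  map_one' := by
    rw [toAdd_one, ZeroMemClass.coe_zero, show up (0 : F) = 1 by simp [up, Matrix.one_fin_two],
      elJ_one hq]
  map_mul' x y := by
    rw [← elJ_mul hq (isoP_up hF (Multiplicative.toAdd x).2) (isoP_up hF (Multiplicative.toAdd y).2),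
      up_mul]
    rfl

omit hq in
/-- The norm one units. -/
def N1 : Subgroup Fˣ := (powMonoidHom (q + 1) : Fˣ →* Fˣ).ker

omit hq hF in
theorem norm_N1 (a : N1 (F := F) (q := q)) : ((a : Fˣ) : F) * ((a : Fˣ) : F) ^ q = 1 := by
  have := congrArg Units.val (MonoidHom.mem_ker.1 a.2)
  simpa [pow_succ'] using this

omit hq in
/-- The diagonal elements. -/
noncomputable def dgHom : N1 (F := F) (q := q) × N1 (F := F) (q := q) →* G where
  toFun x := el hF π (dg ((x.1 : Fˣ) : F) ((x.2 : Fˣ) : F))
  map_one' := by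
    rw [show ((((1 : N1 (F := F) (q := q) × N1 (F := F) (q := q)).1 : Fˣ)) : F) = 1 from rfl,
      show ((((1 : N1 (F := F) (q := q) × N1 (F := F) (q := q)).2 : Fˣ)) : F) = 1 from rfl,
      dg_self, one_smul, el_one]
  map_mul' x y := by
    rw [← el_mul (preserves_dg hF (norm_N1 x.1) (norm_N1 x.2))
      (preserves_dg hF (norm_N1 y.1) (norm_N1 y.2)), dg_mul]
    rfl

/-- `X`. -/
noncomputable def subX : Subgroup G := (upHom hF π hq).range

/-- `H`. -/
noncomputable def subH : Subgroup G := (torHom hF π hq).range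

/-- `K`. -/
noncomputable def subK : Subgroup G := (N1 (F := F) (q := q)).map (torHom hF π hq)

omit hq in
/-- `D`. -/
noncomputable def subD : Subgroup G := (dgHom hF π).range

theorem mem_subX {g : G} : g ∈ subX hF π hq ↔ ∃ c : F, c + c ^ q = 0 ∧ g = elJ hF π (up c) := by
  constructor
  · rintro ⟨c, rfl⟩
    exact ⟨_, (Multiplicative.toAdd c).2, rfl⟩
  · rintro ⟨c, hc, rfl⟩
    exact ⟨Multiplicative.ofAdd ⟨c, hc⟩, rfl⟩

theorem mem_subH {g : G} : g ∈ subH hF π hq ↔ ∃ x : F, x ≠ 0 ∧ g = elJ hF π (tor q x) := by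
  constructor
  · rintro ⟨x, rfl⟩
    exact ⟨_, x.ne_zero, rfl⟩
  · rintro ⟨x, hx, rfl⟩
    exact ⟨Units.mk0 x hx, rfl⟩

theorem mem_subK {g : G} :
    g ∈ subK hF π hq ↔ ∃ c : F, c * c ^ q = 1 ∧ g = el hF π (c • (1 : M2)) := by
  constructor
  · rintro ⟨c, hc, rfl⟩
    have h := norm_N1 (⟨c, hc⟩ : N1 (F := F) (q := q))
    refine ⟨c, h, ?_⟩
    show elJ hF π (tor q (c : F)) = _
    rw [tor_norm_one h, elJ_smul_one hq]
  · rintro ⟨c, hc, rfl⟩
    have hc0 : c ≠ 0 := fun e => by simp [e] at hc
    refine ⟨Units.mk0 c hc0, MonoidHom.mem_ker.2 (Units.ext (by simp [pow_succ', hc])), ?_⟩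
    show elJ hF π (tor q c) = _
    rw [tor_norm_one hc, elJ_smul_one hq]

omit hq in
theorem mem_subD {g : G} : g ∈ subD hF π ↔
    ∃ a b : F, a * a ^ q = 1 ∧ b * b ^ q = 1 ∧ g = el hF π (dg a b) := by
  constructor
  · rintro ⟨x, rfl⟩
    exact ⟨_, _, norm_N1 x.1, norm_N1 x.2, rfl⟩
  · rintro ⟨a, b, ha, hb, rfl⟩
    have ha0 : a ≠ 0 := fun e => by simp [e] at ha
    have hb0 : b ≠ 0 := fun e => by simp [e] at hb
    exact ⟨(⟨Units.mk0 a ha0, MonoidHom.mem_ker.2 (Units.ext (by simp [pow_succ', ha]))⟩,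
      ⟨Units.mk0 b hb0, MonoidHom.mem_ker.2 (Units.ext (by simp [pow_succ', hb]))⟩), rfl⟩

variable {π} {z : ℕ} {t : G}

theorem card_kerz (L : Lift hF z t π) : Nat.card (powMonoidHom z : Fˣ →* Fˣ).ker = z := by
  rw [IsCyclic.card_powMonoidHom_ker, card_units hF]
  exact Nat.gcd_eq_right (dvd_mul_of_dvd_left L.z_dvd _)

theorem torHom_ker (L : Lift hF z t π) :
    (torHom hF π hq).ker = (powMonoidHom z : Fˣ →* Fˣ).ker := by
  ext x
  rw [MonoidHom.mem_ker, MonoidHom.mem_ker, powMonoidHom_apply]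
  show elJ hF π (tor q (x : F)) = 1 ↔ _
  rw [← elJ_one (hF := hF) (π := π) hq, L.elJ_eq hq (isoP_tor hF x.ne_zero)
    (by rw [← preserves_toON hF hq, toON_one hF hq]; exact preserves_one hF)]
  constructor
  · rintro ⟨c, hc, e⟩
    have e0 := congrFun (congrFun e 0) 0
    simp [tor] at e0
    exact Units.ext (by rw [Units.val_pow_eq_pow_val, e0, hc, Units.val_one])
  · intro h
    have hx : (x : F) ^ z = 1 := by rw [← Units.val_pow_eq_pow_val, h, Units.val_one]
    exact ⟨x, hx, tor_norm_one (L.root_norm hx)⟩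

theorem card_subH (L : Lift hF z t π) :
    z * Nat.card (subH hF π hq) = (q + 1) * (q - 1) := by
  rw [← card_units hF, ← (torHom hF π hq).ker.card_mul_index, Subgroup.index_ker, torHom_ker hF hq L,
    card_kerz hF hq L]
  rfl

theorem card_subK (L : Lift hF z t π) : z * Nat.card (subK hF π hq) = q + 1 := by
  set f := (torHom hF π hq).comp (N1 (F := F) (q := q)).subtype with hf
  have e : subK hF π hq = f.range := by
    rw [hf, MonoidHom.range_comp, Subgroup.range_subtype]; rfl
  have hker : Nat.card f.ker = z := by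
    rw [hf, ← MonoidHom.comap_ker, torHom_ker hF hq L]
    refine (Nat.card_congr (Subgroup.subgroupOfEquivOfLe ?_).toEquiv).trans (card_kerz hF hq L)
    intro x hx
    obtain ⟨k, hk⟩ := L.z_dvd
    rw [MonoidHom.mem_ker, powMonoidHom_apply] at hx
    show x ∈ (powMonoidHom (q + 1) : Fˣ →* Fˣ).ker
    rw [MonoidHom.mem_ker, powMonoidHom_apply, hk, pow_mul, hx, one_pow]
  rw [e, ← Subgroup.index_ker f, ← hker, Subgroup.card_mul_index]
  exact card_ker_pow hF

theorem card_subX (L : Lift hF z t π) : Nat.card (subX hF π hq) = q := by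
  have hinj : Function.Injective (upHom hF π hq) := by
    intro x y e
    obtain ⟨c, hc, e'⟩ := (L.elJ_eq hq (isoP_up hF (Multiplicative.toAdd x).2)
      (isoP_up hF (Multiplicative.toAdd y).2)).1 e
    have e0 := congrFun (congrFun e' 0) 0
    have e1 := congrFun (congrFun e' 0) 1
    simp [up] at e0 e1
    rw [← e0, one_mul] at e1
    exact Multiplicative.toAdd.injective (Subtype.ext e1)
  rw [subX, ← Nat.card_congr (MonoidHom.ofInjective hinj).toEquiv]
  exact card_skew hF

theorem card_subD (L : Lift hF z t π) :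
    z * Nat.card (subD hF π) = (q + 1) * (q + 1) := by
  have hN : Nat.card (N1 (F := F) (q := q)) = q + 1 := card_ker_pow hF
  have h := (dgHom hF π).ker.card_mul_index
  rw [Subgroup.index_ker, Nat.card_prod, hN] at h
  rw [← h]
  congr 1
  rw [← card_kerz hF hq L]
  have hle : (powMonoidHom z : Fˣ →* Fˣ).ker ≤ N1 (F := F) (q := q) := by
    intro x hx
    obtain ⟨k, hk⟩ := L.z_dvd
    rw [MonoidHom.mem_ker, powMonoidHom_apply] at hx
    show x ∈ (powMonoidHom (q + 1) : Fˣ →* Fˣ).ker
    rw [MonoidHom.mem_ker, powMonoidHom_apply, hk, pow_mul, hx, one_pow]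
  refine Nat.card_congr
    { toFun := fun x => ⟨(⟨x.1, hle x.2⟩, ⟨x.1, hle x.2⟩), ?_⟩
      invFun := fun y => ⟨(y.1.1 : Fˣ), ?_⟩
      left_inv := fun x => rfl
      right_inv := fun y => ?_ }
  · show el hF π (dg ((x.1 : Fˣ) : F) ((x.1 : Fˣ) : F)) = 1
    have hx : ((x.1 : Fˣ) : F) ^ z = 1 := by
      have := congrArg Units.val (MonoidHom.mem_ker.1 x.2)
      simpa using this
    rw [dg_self, L.el_eq_one (preserves_smul hF (preserves_one hF) (L.root_norm hx))]
    exact ⟨_, hx, rfl⟩
  · obtain ⟨c, hc, e⟩ := (L.el_eq_one (preserves_dg hF (norm_N1 y.1.1) (norm_N1 y.1.2))).1 y.2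
    rw [← dg_self, dg_inj] at e
    exact MonoidHom.mem_ker.2 (Units.ext (by simp [e.1, hc]))
  · obtain ⟨c, hc, e⟩ := (L.el_eq_one (preserves_dg hF (norm_N1 y.1.1) (norm_N1 y.1.2))).1 y.2
    rw [← dg_self, dg_inj] at e
    exact Subtype.ext (Prod.ext rfl (Subtype.ext (Units.ext (e.1.trans e.2.symm))))

theorem card_cent (L : Lift hF z t π) :
    z * Nat.card (Subgroup.centralizer ({t} : Set G)) = q * (q + 1) * (q ^ 2 - 1) := by
  have hker : Nat.card π.ker = z := by
    have hne : ∀ g : π.ker, mat g.1 0 0 ≠ 0 := fun g => by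
      obtain ⟨c, hc, e⟩ := (L.ker_iff g.1).1 g.2
      have : c ≠ 0 := fun h => by rw [h, zero_pow L.z_pos.ne'] at hc; exact zero_ne_one hc
      simpa [e] using this
    have hkm : ∀ g : π.ker, Units.mk0 (mat g.1 0 0) (hne g) ∈ (powMonoidHom z : Fˣ →* Fˣ).ker :=
      fun g => by
        obtain ⟨c, hc, e⟩ := (L.ker_iff g.1).1 g.2
        exact MonoidHom.mem_ker.2 (Units.ext (by simp [e, hc]))
    rw [← card_kerz hF hq L]
    have hxz : ∀ x : (powMonoidHom z : Fˣ →* Fˣ).ker, ((x.1 : Fˣ) : F) ^ z = 1 := fun x => by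
      have := congrArg Units.val (MonoidHom.mem_ker.1 x.2)
      simpa using this
    let f : (powMonoidHom z : Fˣ →* Fˣ).ker → π.ker := fun x =>
      ⟨toGU hF (preserves_smul hF (preserves_one hF) (L.root_norm (hxz x))),
        (L.ker_iff _).2 ⟨_, hxz x, mat_toGU _⟩⟩
    refine (Nat.card_congr
      { toFun := f
        invFun := fun g => ⟨Units.mk0 (mat g.1 0 0) (hne g), hkm g⟩
        left_inv := fun x => Subtype.ext (Units.ext (by simp [f, mat_toGU]))
        right_inv := fun g => by
          obtain ⟨c, hc, e⟩ := (L.ker_iff g.1).1 g.2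
          exact Subtype.ext (mat_inj (by simp [f, mat_toGU, e])) }).symm
  rw [← L.range_eq, ← Subgroup.index_ker, ← hker, Subgroup.card_mul_index, card_GU hF 2]
  simp [Finset.prod_range_succ, guFactor]
  ring

end Cfsg.Agent.H68.UThree.Model
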