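import Cfsg.Agent.H68.UThree.Model.Matrix
import Cfsg.Agent.Unitary.GUCenter
import Cfsg.Agent.H68.UThree.Base

/-!
# Matrices as elements of the centraliser
-/

set_option autoImplicit false
set_option linter.unusedSectionVars false

namespace Cfsg.Agent.H68.UThree.Model

open Matrix Cfsg Cfsg.Agent.Unitary

universe u v

variable {F : Type v} [Field F] [Fintype F] {q : ℕ}

local notation "M2" => Matrix (Fin 2) (Fin 2) F

/-- The matrix of an element. -/
def mat (g : GU 2 F q) : M2 := ((g : GL (Fin 2) F) : M2)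

/-- `π` maps `GU₂(q)` onto `C(t)`; its kernel consists of the scalars `c` with `c ^ z = 1`. -/
structure Lift {G : Type u} [Group G] (hF : Fintype.card F = q ^ 2) (z : ℕ) (t : G)
    (π : GU 2 F q →* G) : Prop where
  z_odd : Odd z
  z_dvd : z ∣ q + 1
  range_eq : π.range = Subgroup.centralizer ({t} : Set G)
  ker_iff : ∀ g, π g = 1 ↔ ∃ c : F, c ^ z = 1 ∧ mat g = c • (1 : M2)
  t_eq : ∀ g, mat g = (-1 : F) • (1 : M2) → π g = t

open Classical in
/-- The element given by a matrix in orthonormal coordinates. -/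
noncomputable def el {G : Type u} [Group G] (hF : Fintype.card F = q ^ 2) (π : GU 2 F q →* G)
    (M : M2) : G :=
  if h : Preserves q M then π (toGU hF h) else 1

/-- The element given by a matrix in isotropic coordinates. -/
noncomputable def elJ {G : Type u} [Group G] (hF : Fintype.card F = q ^ 2) (π : GU 2 F q →* G)
    (A : M2) : G :=
  el hF π (toON hF A)

variable {G : Type u} [Group G] {hF : Fintype.card F = q ^ 2} {z : ℕ} {t : G} {π : GU 2 F q →* G}

theorem el_of {M : M2} (h : Preserves q M) : el hF π M = π (toGU hF h) := by rw [el, dif_pos h]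

theorem mat_toGU {M : M2} (h : Preserves q M) : mat (toGU hF h) = M := coe_toGU hF h

theorem mat_inj {g h : GU 2 F q} (e : mat g = mat h) : g = h := Subtype.ext (Units.ext e)

theorem mat_mul (g h : GU 2 F q) : mat (g * h) = mat g * mat h := rfl

theorem mat_preserves (g : GU 2 F q) : Preserves q (mat g) := mem_GU_iff.1 g.2

theorem el_mat (g : GU 2 F q) : el hF π (mat g) = π g := by
  rw [el_of (mat_preserves g)]
  exact congrArg π (mat_inj (mat_toGU _))

theorem el_mul {M N : M2} (hM : Preserves q M) (hN : Preserves q N) :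
    el hF π (M * N) = el hF π M * el hF π N := by
  rw [el_of hM, el_of hN, el_of (preserves_mul hF hM hN), ← map_mul]
  exact congrArg π (mat_inj (by rw [mat_mul, mat_toGU, mat_toGU, mat_toGU]))

theorem el_one : el hF π (1 : M2) = 1 := by
  have : mat (1 : GU 2 F q) = (1 : M2) := rfl
  rw [← this, el_mat, map_one]

namespace Lift

variable (L : Lift hF z t π)
include L

theorem q_ne : q ≠ 0 := q_ne_zero hF

theorem z_pos : 0 < z := L.z_odd.pos

theorem root_norm {c : F} (h : c ^ z = 1) : c * c ^ q = 1 := by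
  obtain ⟨k, hk⟩ := L.z_dvd
  rw [← pow_succ', hk, pow_mul, h, one_pow]

theorem root_sq {c : F} (h : c ^ z = 1) (h2 : c * c = 1) : c = 1 := by
  obtain ⟨k, hk⟩ := L.z_odd
  rw [hk, pow_succ, pow_mul, pow_two, h2, one_pow, one_mul] at h
  exact h

theorem el_mem (M : M2) : el hF π M ∈ Subgroup.centralizer ({t} : Set G) := by
  by_cases h : Preserves q M
  · rw [el_of h, ← L.range_eq]; exact ⟨_, rfl⟩
  · rw [el, dif_neg h]; exact one_mem _

theorem surj {g : G} (hg : g ∈ Subgroup.centralizer ({t} : Set G)) :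
    ∃ M : M2, Preserves q M ∧ el hF π M = g := by
  rw [← L.range_eq] at hg
  obtain ⟨x, rfl⟩ := hg
  exact ⟨mat x, mat_preserves x, el_mat x⟩

theorem el_eq_one {M : M2} (hM : Preserves q M) :
    el hF π M = 1 ↔ ∃ c : F, c ^ z = 1 ∧ M = c • (1 : M2) := by
  rw [el_of hM, L.ker_iff, mat_toGU]

theorem el_eq {M N : M2} (hM : Preserves q M) (hN : Preserves q N) :
    el hF π M = el hF π N ↔ ∃ c : F, c ^ z = 1 ∧ M = c • N := by
  rw [el_of hM, el_of hN]
  constructor
  · intro h
    obtain ⟨c, hc, e⟩ := (L.ker_iff (toGU hF hM * (toGU hF hN)⁻¹)).1 (by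
      rw [map_mul, map_inv, h, mul_inv_cancel])
    refine ⟨c, hc, ?_⟩
    have h2 := congrArg (fun x => x * N) e
    simp only [Matrix.smul_mul, Matrix.one_mul] at h2
    calc M = mat (toGU hF hM * (toGU hF hN)⁻¹ * toGU hF hN) := by
          rw [inv_mul_cancel_right, mat_toGU]
      _ = mat (toGU hF hM * (toGU hF hN)⁻¹) * N := by rw [mat_mul, mat_toGU]
      _ = c • N := h2
  · rintro ⟨c, hc, e⟩
    have h1 : π (toGU hF (preserves_smul hF (preserves_one hF) (L.root_norm hc))) = 1 :=
      (L.ker_iff _).2 ⟨c, hc, mat_toGU _⟩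
    rw [← one_mul (π (toGU hF hN)), ← h1, ← map_mul]
    exact congrArg π (mat_inj (by rw [mat_mul, mat_toGU, mat_toGU, mat_toGU, e, Matrix.smul_mul,
      Matrix.one_mul]))

theorem el_inv {M N : M2} (hM : Preserves q M) (hN : Preserves q N) (h : M * N = 1) :
    el hF π N = (el hF π M)⁻¹ := by
  rw [eq_inv_iff_mul_eq_one, ← el_mul hN hM, mul_eq_one_comm.1 h, el_one]

theorem conj_eq {A M M' : M2} (hA : Preserves q A) (hM : Preserves q M) (hM' : Preserves q M') :
    el hF π A * el hF π M * (el hF π A)⁻¹ = el hF π M' ↔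
      ∃ c : F, c ^ z = 1 ∧ A * M = c • (M' * A) := by
  rw [mul_inv_eq_iff_eq_mul, ← el_mul hA hM, ← el_mul hM' hA,
    L.el_eq (preserves_mul hF hA hM) (preserves_mul hF hM' hA)]

theorem comm_iff {A M : M2} (hA : Preserves q A) (hM : Preserves q M) :
    el hF π A * el hF π M = el hF π M * el hF π A ↔ ∃ c : F, c ^ z = 1 ∧ A * M = c • (M * A) := by
  rw [← el_mul hA hM, ← el_mul hM hA,
    L.el_eq (preserves_mul hF hA hM) (preserves_mul hF hM hA)]

theorem el_neg_one (h : Preserves q ((-1 : F) • (1 : M2))) : el hF π ((-1 : F) • (1 : M2)) = t := by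
  rw [el_of h]
  exact L.t_eq _ (mat_toGU h)

theorem pow_q_neg_one : (-1 : F) * (-1 : F) ^ q = 1 := by
  rw [neg_pow_q hF, one_pow]; ring

theorem t_el : t = el hF π ((-1 : F) • (1 : M2)) :=
  (L.el_neg_one (preserves_smul hF (preserves_one hF) L.pow_q_neg_one)).symm

/-- The scalar matrices are central. -/
theorem smul_comm_el {c : F} (hc : c * c ^ q = 1) {g : G}
    (hg : g ∈ Subgroup.centralizer ({t} : Set G)) :
    el hF π (c • (1 : M2)) * g = g * el hF π (c • (1 : M2)) := by
  obtain ⟨M, hM, rfl⟩ := L.surj hg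
  have hS := preserves_smul hF (preserves_one (F := F) hF) hc
  rw [← el_mul hS hM, ← el_mul hM hS, Matrix.smul_mul, Matrix.mul_smul, Matrix.one_mul,
    Matrix.mul_one]

end Lift

section Iso

variable (hq : Odd q)
include hq

theorem elJ_mul {A B : M2} (hA : IsoP q A) (hB : IsoP q B) :
    elJ hF π (A * B) = elJ hF π A * elJ hF π B := by
  rw [elJ, toON_mul hF hq, el_mul ((preserves_toON hF hq).2 hA) ((preserves_toON hF hq).2 hB)]
  rfl

theorem isoP_mul (hF : Fintype.card F = q ^ 2) {A B : M2} (hA : IsoP q A) (hB : IsoP q B) : IsoP q (A * B) := by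
  rw [← preserves_toON hF hq, toON_mul hF hq]
  exact preserves_mul hF ((preserves_toON hF hq).2 hA) ((preserves_toON hF hq).2 hB)

theorem elJ_one : elJ hF π (1 : M2) = 1 := by rw [elJ, toON_one hF hq, el_one]

theorem elJ_smul_one (c : F) : elJ hF π (c • (1 : M2)) = el hF π (c • (1 : M2)) := by
  rw [elJ, toON_smul hF hq, toON_one hF hq]

variable (L : Lift hF z t π)
include L

theorem Lift.elJ_eq {A B : M2} (hA : IsoP q A) (hB : IsoP q B) :
    elJ hF π A = elJ hF π B ↔ ∃ c : F, c ^ z = 1 ∧ A = c • B := by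
  rw [elJ, elJ, L.el_eq ((preserves_toON hF hq).2 hA) ((preserves_toON hF hq).2 hB)]
  refine exists_congr fun c => and_congr_right fun _ => ⟨fun h => ?_, fun h => ?_⟩
  · have := congrArg (toIso hF) h
    rwa [← toON_smul hF hq, toIso_toON hF hq, toIso_toON hF hq] at this
  · rw [h, toON_smul hF hq]

theorem Lift.elJ_conj_eq {A M M' : M2} (hA : IsoP q A) (hM : IsoP q M) (hM' : IsoP q M') :
    elJ hF π A * elJ hF π M * (elJ hF π A)⁻¹ = elJ hF π M' ↔
      ∃ c : F, c ^ z = 1 ∧ A * M = c • (M' * A) := by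
  rw [mul_inv_eq_iff_eq_mul, ← elJ_mul hq hA hM, ← elJ_mul hq hM' hA,
    L.elJ_eq hq (isoP_mul hq hF hA hM) (isoP_mul hq hF hM' hA)]

theorem Lift.surjJ {g : G} (hg : g ∈ Subgroup.centralizer ({t} : Set G)) :
    ∃ A : M2, IsoP q A ∧ elJ hF π A = g := by
  obtain ⟨M, hM, rfl⟩ := L.surj hg
  refine ⟨toIso hF M, ?_, ?_⟩
  · rw [← preserves_toON hF hq, toON_toIso hF hq]; exact hM
  · rw [elJ, toON_toIso hF hq]

theorem Lift.elJ_mem (A : M2) : elJ hF π A ∈ Subgroup.centralizer ({t} : Set G) := L.el_mem _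

end Iso

end Cfsg.Agent.H68.UThree.Model
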