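import Cfsg.Agent.H68.UThree.Model.TorusFacts

/-!
# `C(t) ≅ GU₂(q)/Z` gives the centraliser data
-/

set_option autoImplicit false
set_option linter.unusedSectionVars false
set_option linter.style.haveILetI false

namespace Cfsg.Agent.H68.UThree.Model

open Matrix Cfsg Cfsg.Agent.Unitary

universe u v

variable {F : Type v} [Field F] [Fintype F] {q : ℕ}

local notation "M2" => Matrix (Fin 2) (Fin 2) F

variable {G : Type u} [Group G] {hF : Fintype.card F = q ^ 2} {z : ℕ} {t : G} {π : GU 2 F q →* G}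

/-- The Weyl element. -/
noncomputable def wel (hF : Fintype.card F = q ^ 2) (π : GU 2 F q →* G) : G := elJ hF π (jm : M2)

theorem exists_gen (hF : Fintype.card F = q ^ 2) :
    ∃ ξ : F, ξ * ξ ^ q = 1 ∧ orderOf ξ = q + 1 ∧ ∀ a : F, a * a ^ q = 1 → ∃ i : ℕ, a = ξ ^ i := by
  obtain ⟨g, hg⟩ := IsCyclic.exists_generator (α := N1 (F := F) (q := q))
  refine ⟨((g : Fˣ) : F), norm_N1 g, ?_, fun a ha => ?_⟩
  · rw [orderOf_units, Subgroup.orderOf_coe, orderOf_eq_card_of_forall_mem_zpowers hg]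
    exact card_ker_pow hF
  · have ha0 : a ≠ 0 := fun e => by simp [e] at ha
    obtain ⟨i, hi⟩ := (isOfFinOrder_of_finite g).mem_powers_iff_mem_zpowers.2
      (hg ⟨Units.mk0 a ha0, MonoidHom.mem_ker.2 (Units.ext (by simp [pow_succ', ha]))⟩)
    exact ⟨i, by
      have := congrArg (fun x : N1 (F := F) (q := q) => ((x : Fˣ) : F)) hi
      simpa using this.symm⟩

namespace Lift

variable (L : Lift hF z t π) (hq : Odd q)
include L hq

theorem cent_X_model {g : G} (hg : g ∈ Subgroup.centralizer ({t} : Set G))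
    (hc : ∀ x ∈ subX hF π hq, g * x = x * g) :
    ∃ x ∈ subX hF π hq, ∃ k ∈ subK hF π hq, g = x * k := by
  obtain ⟨δ, hδ0, hδ⟩ := exists_skew hF
  have hδ' : δ + δ ^ q = 0 := by rw [hδ]; ring
  obtain ⟨A, hA, rfl⟩ := L.surjJ hq hg
  have h := hc _ ((mem_subX hF π hq).2 ⟨δ, hδ', rfl⟩)
  rw [← elJ_mul hq hA (isoP_up hF hδ'), ← elJ_mul hq (isoP_up hF hδ') hA,
    L.elJ_eq hq (isoP_mul hq hF hA (isoP_up hF hδ')) (isoP_mul hq hF (isoP_up hF hδ') hA)] at h
  obtain ⟨c, hcz, e⟩ := h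
  have hAe := eq_fin_two A
  generalize A 0 0 = a, A 0 1 = b, A 1 0 = c0, A 1 1 = d at hAe
  subst hAe
  simp only [up, Matrix.mul_fin_two, Matrix.smul_of, Matrix.smul_cons, Matrix.smul_empty,
    smul_eq_mul, mul_one, one_mul, mul_zero, zero_mul, add_zero, zero_add, fin_two_inj] at e
  obtain ⟨e1, e2, e3, e4⟩ := e
  obtain ⟨p1, p2, p3, p4⟩ := isoP_fin_two.1 hA
  have hc1 : c = 1 := by
    by_contra hne
    have hne' : (1 : F) - c ≠ 0 := sub_ne_zero.2 (Ne.symm hne)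
    have h0 : c0 = 0 := (mul_eq_zero.1 (show (1 - c) * c0 = 0 by linear_combination e3)).resolve_left hne'
    have hd : d = 0 :=
      (mul_eq_zero.1 (show (1 - c) * d = 0 by rw [h0] at e4; linear_combination e4)).resolve_left hne'
    rw [h0, hd] at p3
    simp [q_ne_zero hF] at p3
  subst hc1
  have h0 : c0 = 0 :=
    (mul_eq_zero.1 (show δ * c0 = 0 by linear_combination e4)).resolve_left hδ0
  subst h0
  have had : a = d := by
    have : δ * (a - d) = 0 := by linear_combination e2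
    exact sub_eq_zero.1 ((mul_eq_zero.1 this).resolve_left hδ0)
  subst had
  have hna : a * a ^ q = 1 := by simpa [q_ne_zero hF] using p3
  have ha0 : a ≠ 0 := fun e => by simp [e] at hna
  have hb : b / a + (b / a) ^ q = 0 := by
    rw [div_pow, div_add_div _ _ ha0 (pow_ne_zero q ha0), div_eq_zero_iff]
    left
    linear_combination p4
  refine ⟨_, (mem_subX hF π hq).2 ⟨_, hb, rfl⟩, elJ hF π (a • (1 : M2)), ?_, ?_⟩
  · rw [elJ_smul_one hq]; exact (mem_subK hF π hq).2 ⟨a, hna, rfl⟩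
  · rw [← elJ_mul hq (isoP_up hF hb) (by rw [← tor_norm_one hna]; exact isoP_tor hF ha0)]
    congr 1
    rw [← dg_self]
    simp [up, dg, Matrix.mul_fin_two, div_mul_cancel₀ _ ha0]

theorem norm_X_model {g : G} (hg : g ∈ Subgroup.centralizer ({t} : Set G))
    (hc : ∀ x ∈ subX hF π hq, g * x * g⁻¹ ∈ subX hF π hq) :
    ∃ x ∈ subX hF π hq, ∃ h ∈ subH hF π hq, g = x * h := by
  obtain ⟨δ, hδ0, hδ⟩ := exists_skew hF
  have hδ' : δ + δ ^ q = 0 := by rw [hδ]; ring
  obtain ⟨A, hA, rfl⟩ := L.surjJ hq hg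
  obtain ⟨c', hc', he⟩ := (mem_subX hF π hq).1 (hc _ ((mem_subX hF π hq).2 ⟨δ, hδ', rfl⟩))
  obtain ⟨c, hcz, e⟩ := (L.elJ_conj_eq hq hA (isoP_up hF hδ') (isoP_up hF hc')).1 he
  have hAe := eq_fin_two A
  generalize A 0 0 = a, A 0 1 = b, A 1 0 = c0, A 1 1 = d at hAe
  subst hAe
  simp only [up, Matrix.mul_fin_two, Matrix.smul_of, Matrix.smul_cons, Matrix.smul_empty,
    smul_eq_mul, mul_one, one_mul, mul_zero, zero_mul, add_zero, zero_add, fin_two_inj] at e
  obtain ⟨e1, e2, e3, e4⟩ := e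
  obtain ⟨p1, p2, p3, p4⟩ := isoP_fin_two.1 hA
  have h0 : c0 = 0 := by
    by_cases h : c = 1
    · subst h
      exact (mul_eq_zero.1 (show δ * c0 = 0 by linear_combination e4)).resolve_left hδ0
    · have hne' : (1 : F) - c ≠ 0 := sub_ne_zero.2 (Ne.symm h)
      exact (mul_eq_zero.1 (show (1 - c) * c0 = 0 by linear_combination e3)).resolve_left hne'
  subst h0
  have hda : d * a ^ q = 1 := by simpa [q_ne_zero hF] using p3
  have hd0 : d ≠ 0 := left_ne_zero_of_mul_eq_one hda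
  have ha0 : a ≠ 0 := fun e => by simp [e, q_ne_zero hF] at hda
  have hb : b / d + (b / d) ^ q = 0 := by
    rw [div_pow, div_add_div _ _ hd0 (pow_ne_zero q hd0), div_eq_zero_iff]
    left
    linear_combination p4
  refine ⟨_, (mem_subX hF π hq).2 ⟨_, hb, rfl⟩, _, (mem_subH hF π hq).2 ⟨a, ha0, rfl⟩, ?_⟩
  rw [← elJ_mul hq (isoP_up hF hb) (isoP_tor hF ha0)]
  congr 1
  have hd' : (a ^ q)⁻¹ = d := (eq_inv_of_mul_eq_one_left hda).symm
  simp [up, tor, Matrix.mul_fin_two, hd', div_mul_cancel₀ _ hd0]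

theorem invol_model (ht : orderOf t = 2) {j : G} (hj : j ∈ Subgroup.centralizer ({t} : Set G))
    (hj2 : orderOf j = 2) :
    j = t ∨ ∃ c ∈ Subgroup.centralizer ({t} : Set G), c * iel hF π * c⁻¹ = j := by
  obtain ⟨M₀, hM₀, rfl⟩ := L.surj hj
  have hsq : el hF π (M₀ * M₀) = 1 := by
    rw [el_mul hM₀ hM₀, ← pow_two, ← hj2, pow_orderOf_eq_one]
  obtain ⟨ζ, hζ, e⟩ := (L.el_eq_one (preserves_mul hF hM₀ hM₀)).1 hsq
  obtain ⟨k, hk⟩ := L.z_odd
  set c := (ζ ^ (k + 1))⁻¹ with hc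
  have hcz : c ^ z = 1 := by rw [hc, inv_pow, ← pow_mul, mul_comm, pow_mul, hζ, one_pow, inv_one]
  have hcc : c * c * ζ = 1 := by
    rw [hc, ← mul_inv, ← pow_add, show k + 1 + (k + 1) = (2 * k + 1) + 1 by ring, ← hk, pow_succ,
      hζ, one_mul, inv_mul_cancel₀]
    intro h
    rw [h, zero_pow L.z_pos.ne'] at hζ
    exact zero_ne_one hζ
  set M := c • M₀ with hMdef
  have hM : Preserves q M := preserves_smul hF hM₀ (L.root_norm hcz)
  have hel : el hF π M = el hF π M₀ := (L.el_eq hM hM₀).2 ⟨c, hcz, rfl⟩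
  have hMM : M * M = 1 := by
    rw [hMdef, Matrix.smul_mul, Matrix.mul_smul, e, smul_smul, smul_smul, hcc, one_smul]
  have hT : cm q M = Mᵀ := by
    have h1 := (preserves_iff_transpose_mul hF).1 hM
    calc cm q M = (M * M)ᵀ * cm q M := by rw [hMM, Matrix.transpose_one, Matrix.one_mul]
      _ = Mᵀ * (Mᵀ * cm q M) := by rw [Matrix.transpose_mul, Matrix.mul_assoc]
      _ = Mᵀ := by rw [show Mᵀ * cm q M = 1 from h1, Matrix.mul_one]
  rw [← hel] at hj2 ⊢
  have hMe := eq_fin_two M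
  generalize M 0 0 = a, M 0 1 = b, M 1 0 = c0, M 1 1 = d at hMe
  rw [hMe] at hM hMM hT hj2 ⊢
  rw [cm_fin_two, transpose_fin_two, fin_two_inj] at hT
  obtain ⟨t1, t2, t3, t4⟩ := hT
  rw [Matrix.mul_fin_two, Matrix.one_fin_two, fin_two_inj] at hMM
  obtain ⟨m1, m2, m3, m4⟩ := hMM
  have hsi : el hF π (dg (-1 : F) 1) = sel hF π * iel hF π * (sel hF π)⁻¹ :=
    (L.sel_conj_dg L.norm_one' L.pow_q_neg_one).symm
  by_cases hb : b = 0
  · subst hb
    obtain rfl : c0 = 0 := by rw [← t2]; exact zero_pow (q_ne_zero hF)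
    have ha : a = 1 ∨ a = -1 := mul_self_eq_one_iff.1 (by linear_combination m1)
    have hd : d = 1 ∨ d = -1 := mul_self_eq_one_iff.1 (by linear_combination m4)
    change orderOf (el hF π (dg a d)) = 2 at hj2
    change el hF π (dg a d) = t ∨ ∃ c ∈ _, c * iel hF π * c⁻¹ = el hF π (dg a d)
    rcases ha with rfl | rfl <;> rcases hd with rfl | rfl
    · rw [dg_self, one_smul, el_one, orderOf_one] at hj2
      omega
    · exact Or.inr ⟨1, one_mem _, by rw [one_mul, inv_one, mul_one]; rfl⟩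
    · exact Or.inr ⟨sel hF π, L.el_mem _, hsi.symm⟩
    · exact Or.inl L.t_dg.symm
  · right
    have hd : d = -a := by
      have : b * (a + d) = 0 := by linear_combination m2
      linear_combination (mul_eq_zero.1 this).resolve_left hb
    subst hd
    obtain rfl : c0 = b ^ q := t2.symm
    have ha1 : 1 + a ≠ 0 := by
      intro h
      obtain rfl : a = -1 := by linear_combination h
      have : b * b ^ q = 0 := by linear_combination m1
      rcases mul_eq_zero.1 this with h | h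
      · exact hb h
      · exact hb ((pow_q_eq_zero_iff hF).1 h)
    have h2 := two_ne hF hq
    obtain ⟨μ, hμ⟩ := exists_norm_eq hF (show (2 * (1 + a)) ^ q = 2 * (1 + a) by
      rw [mul_pow, add_pow_q hF, one_pow, t1, show (2 : F) ^ q = 2 from by
        simpa using natCast_pow_q hF 2])
    have hμ0 : μ ≠ 0 := fun h => by
      rw [h, zero_mul] at hμ
      exact mul_ne_zero h2 ha1 hμ.symm
    set U : M2 := !![(1 + a) / μ, -b / μ; b ^ q / μ, (1 + a) / μ] with hU
    have hUp : Preserves q U := by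
      rw [hU, preserves_fin_two hF]
      simp only [div_pow, div_mul_div_comm, ← add_div, hμ, add_pow_q hF, one_pow, t1,
        neg_pow_q hF, pow_q_q hF]
      have hne : (2 : F) * (1 + a) ≠ 0 := mul_ne_zero h2 ha1
      refine ⟨?_, ?_, ?_, ?_⟩
      · rw [div_eq_one_iff_eq hne]; linear_combination m1
      · rw [div_eq_zero_iff]; left; ring
      · rw [div_eq_zero_iff]; left; ring
      · rw [div_eq_one_iff_eq hne]; linear_combination m1
    refine ⟨el hF π U, L.el_mem _, ?_⟩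
    rw [iel, L.conj_eq hUp L.pres_i hM]
    refine ⟨1, one_pow z, ?_⟩
    simp only [hU, dg, one_smul, Matrix.mul_fin_two, fin_two_inj]
    refine ⟨?_, ?_, ?_, ?_⟩ <;> field_simp
    · linear_combination -m1
    · ring
    · ring
    · linear_combination m1

theorem D_invol_model {j : G} (hj : j ∈ subD hF π) (hj2 : orderOf j = 2) :
    j = t ∨ j = iel hF π ∨ j = t * iel hF π := by
  obtain ⟨a, b, ha, hb, rfl⟩ := (mem_subD hF π).1 hj
  have hsq : el hF π (dg a b) ^ 2 = 1 := by rw [← hj2, pow_orderOf_eq_one]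
  have hn : ∀ {x : F}, x * x ^ q = 1 → x ^ 2 * (x ^ 2) ^ q = 1 := fun {x} hx => by
    rw [← pow_mul, mul_comm 2, pow_mul, ← mul_pow, hx, one_pow]
  rw [L.el_dg_pow ha hb, L.el_dg_eq_one (hn ha) (hn hb)] at hsq
  obtain ⟨hab, haz⟩ := hsq
  obtain ⟨k, hk⟩ := L.z_odd
  set c := (a ^ 2) ^ (k + 1) with hc
  have hcz : c ^ z = 1 := by rw [hc, ← pow_mul, mul_comm, pow_mul, haz, one_pow]
  have hcc : c * c = a ^ 2 := by
    rw [hc, ← pow_add, show k + 1 + (k + 1) = (2 * k + 1) + 1 by ring, ← hk, pow_succ, haz, one_mul]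
  have hca : a = c * 1 ∨ a = c * -1 := by
    rw [mul_one, mul_neg_one]
    exact mul_self_eq_mul_self_iff.1 (by rw [hcc, pow_two])
  have hcb : b = c * 1 ∨ b = c * -1 := by
    rw [mul_one, mul_neg_one]
    exact mul_self_eq_mul_self_iff.1 (by rw [hcc, hab, pow_two])
  rcases hca with h1 | h1 <;> rcases hcb with h2 | h2
  · exfalso
    rw [L.el_dg_eq ha hb L.norm_one' L.norm_one' hcz h1 h2, dg_self, one_smul, el_one,
      orderOf_one] at hj2
    omega
  · exact Or.inr (Or.inl (L.el_dg_eq ha hb L.norm_one' L.pow_q_neg_one hcz h1 h2))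
  · exact Or.inr (Or.inr (by rw [L.ti_dg, L.el_dg_eq ha hb L.pow_q_neg_one L.norm_one' hcz h1 h2]))
  · refine Or.inl ?_
    rw [L.el_dg_eq ha hb L.pow_q_neg_one L.pow_q_neg_one hcz h1 h2, ← L.t_dg]

theorem torus_model {r b : ℕ} (hr : r.Prime) (hb : 1 ≤ b) (hdvd : r ^ b ∣ z) :
    ∃ η ∈ subD hF π, orderOf η = r ^ b ∧
      (∀ e ∈ subD hF π, e ^ ((q + 1) / r ^ b) ∈ Subgroup.zpowers η) ∧
      (∃ α ∈ subD hF π, α ^ ((q + 1) / r ^ b) = η) ∧ sel hF π * η * (sel hF π)⁻¹ = η⁻¹ ∧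
      (∀ g ∈ Subgroup.centralizer ({t} : Set G),
        g * η ^ r ^ (b - 1) = η ^ r ^ (b - 1) * g → g ∈ subD hF π) ∧
      ∀ u ∈ subD hF π, u ^ r = 1 →
        ∃ j : ℕ, ∃ k0 ∈ subK hF π hq, u = (η ^ r ^ (b - 1)) ^ j * k0 := by
  obtain ⟨ξ, hξ, hξo, hgen⟩ := exists_gen hF
  set e := (q + 1) / r ^ b with he
  have hqe : r ^ b * e = q + 1 := Nat.mul_div_cancel' (hdvd.trans L.z_dvd)
  set c := ξ ^ e with hc
  have hco : orderOf c = r ^ b := by
    rw [hc, orderOf_pow_of_dvd (fun h => by rw [h, mul_zero] at hqe; omega)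
      (hξo ▸ Dvd.intro_left _ hqe), hξo, ← hqe,
      Nat.mul_div_cancel _ (Nat.pos_of_ne_zero fun h => by rw [h, mul_zero] at hqe; omega)]
  have hnp : ∀ {x : F} (m : ℕ), x * x ^ q = 1 → x ^ m * (x ^ m) ^ q = 1 := fun {x} m hx => by
    rw [← pow_mul, mul_comm m, pow_mul, ← mul_pow, hx, one_pow]
  have hcn : c * c ^ q = 1 := hnp e hξ
  have hcz : ∀ m : ℕ, (c ^ m) ^ z = 1 := fun m => by
    obtain ⟨k, hk⟩ := hdvd
    rw [← pow_mul, hk, show m * (r ^ b * k) = r ^ b * (m * k) by ring, pow_mul, ← hco,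
      pow_orderOf_eq_one, one_pow]
  set η := el hF π (dg c 1) with hη
  have hαη : el hF π (dg ξ 1) ^ e = η := by
    rw [L.el_dg_pow hξ L.norm_one', one_pow]
  have hηo : orderOf η = r ^ b := by
    rw [← hco, orderOf_eq_orderOf_iff]
    intro m
    rw [L.el_dg_pow hcn L.norm_one', one_pow, L.el_dg_eq_one (hnp m hcn) L.norm_one']
    exact ⟨fun h => h.1, fun h => ⟨h, by rw [h, one_pow]⟩⟩
  refine ⟨η, (mem_subD hF π).2 ⟨c, 1, hcn, L.norm_one', rfl⟩, hηo, ?_,
    ⟨_, (mem_subD hF π).2 ⟨ξ, 1, hξ, L.norm_one', rfl⟩, hαη⟩, ?_, ?_, ?_⟩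
  · intro x hx
    obtain ⟨a, b', ha, hb', rfl⟩ := (mem_subD hF π).1 hx
    obtain ⟨i, rfl⟩ := hgen a ha
    obtain ⟨j, rfl⟩ := hgen b' hb'
    rw [L.el_dg_pow ha hb', ← pow_mul, ← pow_mul, mul_comm i, mul_comm j, pow_mul, pow_mul, ← hc]
    have hrb : 1 ≤ r ^ b := Nat.one_le_pow _ _ hr.pos
    rw [L.el_dg_eq (hnp i hcn) (hnp j hcn) (hnp (i + (r ^ b - 1) * j) hcn) L.norm_one' (hcz j)
      (by
        rw [← pow_add, show j + (i + (r ^ b - 1) * j) = i + r ^ b * j by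
          obtain ⟨m, hm⟩ : ∃ m, r ^ b = m + 1 := ⟨r ^ b - 1, by omega⟩
          rw [hm, Nat.add_sub_cancel]; ring,
          pow_add, pow_mul, ← hco, pow_orderOf_eq_one, one_pow, mul_one]) (mul_one _).symm,
      show el hF π (dg (c ^ (i + (r ^ b - 1) * j)) 1) = η ^ (i + (r ^ b - 1) * j) by
        rw [L.el_dg_pow hcn L.norm_one', one_pow]]
    exact Subgroup.pow_mem _ (Subgroup.mem_zpowers _) _
  · rw [hη, L.sel_conj_dg hcn L.norm_one', eq_inv_iff_mul_eq_one,
      L.el_dg_mul L.norm_one' hcn hcn L.norm_one', one_mul, mul_one, L.el_dg_eq_one hcn hcn]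
    exact ⟨rfl, by simpa using hcz 1⟩
  · intro g hg hgk
    obtain ⟨M, hM, rfl⟩ := L.surj hg
    set k := c ^ r ^ (b - 1) with hk
    rw [L.el_dg_pow hcn L.norm_one', one_pow] at hgk
    obtain ⟨ζ, hζ, e'⟩ := (L.comm_iff hM (preserves_dg hF (hnp _ hcn) L.norm_one')).1 hgk
    have hk1 : k ≠ 1 := by
      intro h
      have h1 := orderOf_dvd_of_pow_eq_one h
      rw [hco] at h1
      have := Nat.le_of_dvd (pow_pos hr.pos _) h1
      have := Nat.pow_lt_pow_right hr.one_lt (show b - 1 < b by omega)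
      omega
    have hdetk : (dg k (1 : F)).det = k := by simp [dg, Matrix.det_fin_two_of]
    have hk0 : k ≠ 0 := fun h => by
      have := hnp (r ^ (b - 1)) hcn
      rw [← hk, h, zero_mul] at this
      exact zero_ne_one this
    have hζ1 : ζ = 1 := by
      refine L.root_sq hζ ?_
      have h := congrArg Matrix.det e'
      rw [Matrix.det_smul, Matrix.det_mul, Matrix.det_mul, Fintype.card_fin, mul_comm (dg k 1).det]
        at h
      rw [← pow_two]
      exact mul_right_cancel₀ (mul_ne_zero (left_ne_zero_of_mul_eq_one (hM.det_norm hF))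
        (hdetk.symm ▸ hk0)) (by rw [one_mul]; exact h.symm)
    subst hζ1
    rw [one_smul] at e'
    have hMe := eq_fin_two M
    generalize M 0 0 = a, M 0 1 = b', M 1 0 = c0, M 1 1 = d at hMe
    subst hMe
    simp only [dg, Matrix.mul_fin_two, mul_zero, zero_mul, add_zero, zero_add, one_mul, mul_one,
      fin_two_inj] at e'
    obtain ⟨-, e2, -, -⟩ := e'
    have hb0 : b' = 0 := by
      have : b' * (1 - k) = 0 := by linear_combination e2
      exact (mul_eq_zero.1 this).resolve_right (fun h => hk1 (sub_eq_zero.1 h).symm)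
    obtain ⟨-, hc0⟩ := diag_of_zero hF hM (Or.inl hb0)
    obtain ⟨h1, -, -, h4⟩ := (preserves_fin_two hF).1 hM
    subst hb0 hc0
    exact (mem_subD hF π).2 ⟨a, d, by simpa using h1, by simpa using h4, rfl⟩
  · intro u hu hur
    obtain ⟨a, b', ha, hb', rfl⟩ := (mem_subD hF π).1 hu
    rw [L.el_dg_pow ha hb', L.el_dg_eq_one (hnp r ha) (hnp r hb')] at hur
    obtain ⟨hab, -⟩ := hur
    have hb0 : b' ≠ 0 := fun h => by simp [h] at hb'
    set k := c ^ r ^ (b - 1) with hk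
    have hko : orderOf k = r := by
      rw [hk, orderOf_pow_of_dvd (pow_ne_zero _ hr.ne_zero)
        (by rw [hco]; exact pow_dvd_pow r (by omega)), hco, Nat.pow_div (by omega) hr.pos,
        show b - (b - 1) = 1 by omega, pow_one]
    haveI : NeZero r := ⟨hr.ne_zero⟩
    obtain ⟨j, -, hj⟩ := (hko ▸ IsPrimitiveRoot.orderOf k : IsPrimitiveRoot k r).eq_pow_of_pow_eq_one
      (ξ := a / b') (by rw [div_pow, hab, div_self (pow_ne_zero _ hb0)])
    refine ⟨j, el hF π (b' • (1 : M2)), (mem_subK hF π hq).2 ⟨b', hb', rfl⟩, ?_⟩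
    rw [L.el_dg_pow hcn L.norm_one', one_pow, L.el_dg_pow (hnp _ hcn) L.norm_one', one_pow,
      ← dg_self, L.el_dg_mul (hnp _ (hnp _ hcn)) L.norm_one' hb' hb', ← hk, hj,
      div_mul_cancel₀ _ hb0, one_mul]

theorem t_gen_model : t ∈ Subgroup.closure
    ({x : G | x ∈ subX hF π hq} ∪ {y : G | (wel hF π)⁻¹ * y * wel hF π ∈ subX hF π hq}) := by
  obtain ⟨δ, hδ0, hδ⟩ := exists_skew hF
  have hδ' : δ + δ ^ q = 0 := by rw [hδ]; ring
  have hδi : -δ⁻¹ + (-δ⁻¹) ^ q = 0 := by rw [neg_pow_q hF, inv_pow, hδ, inv_neg]; ring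
  set S := Subgroup.closure
    ({x : G | x ∈ subX hF π hq} ∪ {y : G | (wel hF π)⁻¹ * y * wel hF π ∈ subX hF π hq})
  have hj := isoP_jm (F := F) hF
  have hww : wel hF π * wel hF π = 1 := by
    rw [wel, ← elJ_mul hq hj hj, show (jm : M2) * jm = 1 by
      simp [jm, Matrix.mul_fin_two, Matrix.one_fin_two], elJ_one hq]
  have h1 : elJ hF π (up δ) ∈ S :=
    Subgroup.subset_closure (Or.inl ((mem_subX hF π hq).2 ⟨δ, hδ', rfl⟩))
  have h2 : wel hF π * elJ hF π (up (-δ⁻¹)) * wel hF π ∈ S := by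
    refine Subgroup.subset_closure (Or.inr ?_)
    show (wel hF π)⁻¹ * (wel hF π * elJ hF π (up (-δ⁻¹)) * wel hF π) * wel hF π ∈ subX hF π hq
    rw [show (wel hF π)⁻¹ * (wel hF π * elJ hF π (up (-δ⁻¹)) * wel hF π) * wel hF π =
      elJ hF π (up (-δ⁻¹)) * (wel hF π * wel hF π) by group, hww, mul_one]
    exact (mem_subX hF π hq).2 ⟨_, hδi, rfl⟩
  have hu := isoP_up hF hδi
  have hju := isoP_mul hq hF hj hu
  have hlo : wel hF π * elJ hF π (up (-δ⁻¹)) * wel hF π = elJ hF π (jm * up (-δ⁻¹) * jm) := by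
    rw [elJ_mul hq hju hj, elJ_mul hq hj hu]; rfl
  rw [hlo] at h2
  have hy := isoP_mul hq hF hju hj
  have hxy := isoP_mul hq hF (isoP_up hF hδ') hy
  have hxyx := isoP_mul hq hF hxy (isoP_up hF hδ')
  have h3 : elJ hF π (up δ * (jm * up (-δ⁻¹) * jm) * up δ) ∈ S := by
    rw [elJ_mul hq hxy (isoP_up hF hδ'), elJ_mul hq (isoP_up hF hδ') hy]
    exact mul_mem (mul_mem h1 h2) h1
  have h4 := mul_mem h3 h3
  rw [← elJ_mul hq hxyx hxyx] at h4
  have hmat : up δ * (jm * up (-δ⁻¹) * jm) * up δ * (up δ * (jm * up (-δ⁻¹) * jm) * up δ) =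
      (-1 : F) • (1 : M2) := by
    have e : up δ * (jm * up (-δ⁻¹) * jm) * up δ = !![0, δ; -δ⁻¹, 0] := by
      simp only [up, jm, Matrix.mul_fin_two, fin_two_inj]
      refine ⟨?_, ?_, ?_, ?_⟩ <;> field_simp <;> ring
    rw [e, ← dg_self, Matrix.mul_fin_two]
    unfold dg
    rw [fin_two_inj]
    refine ⟨?_, ?_, ?_, ?_⟩ <;> field_simp <;> ring
  rw [hmat, elJ_smul_one hq, ← L.t_el] at h4
  exact h4

/-- **The centraliser data.** -/
theorem cent [Finite G] {p n : ℕ} (hp : p.Prime) (hp2 : p ≠ 2) (hn : 1 ≤ n) (hqp : q = p ^ n)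
    (ht : orderOf t = 2)
    (hidx : (Subgroup.centralizer ({t} : Set G)).index = q ^ 2 * (q ^ 2 - q + 1)) :
    Cent p n z ((q + 1) / z) t (iel hF π) (sel hF π) (wel hF π) (subK hF π hq) (subX hF π hq)
      (subH hF π hq) (subD hF π) := by
  subst hqp
  set d := (p ^ n + 1) / z with hd
  have hzd : z * d = p ^ n + 1 := Nat.mul_div_cancel' L.z_dvd
  have h2 := two_ne hF hq
  obtain ⟨ξ, hξ, hξo, -⟩ := exists_gen hF
  have hξ2 : ξ * ξ ≠ 1 := by
    intro h
    have h1 := orderOf_dvd_of_pow_eq_one (show ξ ^ 2 = 1 by rw [pow_two, h])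
    rw [hξo] at h1
    have := Nat.le_of_dvd two_pos h1
    have := two_le_q hF
    omega
  have hj := isoP_jm (F := F) hF
  have hww : wel hF π * wel hF π = 1 := by
    rw [wel, ← elJ_mul hq hj hj, show (jm : M2) * jm = 1 by
      simp [jm, Matrix.mul_fin_two, Matrix.one_fin_two], elJ_one hq]
  haveI hHc : IsCyclic (subH hF π hq) :=
    isCyclic_of_surjective _ (torHom hF π hq).rangeRestrict_surjective
  have hKH : subK hF π hq ≤ subH hF π hq := Subgroup.map_le_range _ _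
  have hH_le : subH hF π hq ≤ Subgroup.centralizer ({t} : Set G) := fun g hg => by
    obtain ⟨x, -, rfl⟩ := (mem_subH hF π hq).1 hg; exact L.elJ_mem hq _
  have hi2 : iel hF π * iel hF π = 1 := by
    rw [iel, L.el_dg_mul L.norm_one' L.pow_q_neg_one L.norm_one' L.pow_q_neg_one, neg_mul_neg,
      one_mul, dg_self, one_smul, el_one]
  have hi1 : iel hF π ≠ 1 := by
    rw [iel, Ne, L.el_dg_eq_one L.norm_one' L.pow_q_neg_one]
    rintro ⟨h, -⟩
    exact h2 (by linear_combination h)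
  refine
    { prime := hp
      odd := hp2
      one_le := hn
      z_odd := L.z_odd
      zd := hzd
      ht := ht
      card_C := ?_
      index_C := hidx
      K_le := hKH.trans hH_le
      K_comm := ?_
      K_cyclic := Subgroup.isCyclic_of_le hKH
      card_K := ?_
      t_K := (mem_subK hF π hq).2 ⟨-1, L.pow_q_neg_one, L.t_el⟩
      X_le := ?_
      card_X := card_subX hF hq L
      X_comm := ?_
      Hb_le := hH_le
      Hb_cyclic := hHc
      card_Hb := ?_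
      K_Hb := hKH
      Hb_X := ?_
      cent_X := fun g hg hc => L.cent_X_model hq hg hc
      norm_X := fun g hg hc => L.norm_X_model hq hg hc
      w_mem := L.elJ_mem hq _
      w_Hb := ?_
      w_sq := by rw [hww]; exact one_mem _
      X_opp := ?_
      t_gen := L.t_gen_model hq
      i_mem := L.el_mem _
      hi := orderOf_eq_prime (by rw [pow_two, hi2]) hi1
      i_ne := ?_
      invol := fun j hj hj2 => L.invol_model hq ht hj hj2
      D_eq := Subgroup.ext fun g => L.mem_D_iff hq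
      D_comm := ?_
      card_D := ?_
      D_invol := fun j hj hj2 => L.D_invol_model hq hj hj2
      D_odd := L.le_D hq ht hξ hξ2
      s_mem := L.el_mem _
      s_i := by rw [iel, L.sel_conj_dg L.norm_one' L.pow_q_neg_one, ← L.ti_dg, iel]
      torus := fun r hr b hb hdvd _ => L.torus_model hq hr hb hdvd }
  · refine Nat.eq_of_mul_eq_mul_left L.z_pos ?_
    rw [card_cent hF hq L]
    calc p ^ n * (p ^ n + 1) * ((p ^ n) ^ 2 - 1) = p ^ n * ((p ^ n) ^ 2 - 1) * (z * d) := by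
          rw [hzd]; ring
      _ = _ := by ring
  · intro k hk g hg
    obtain ⟨c, hc, rfl⟩ := (mem_subK hF π hq).1 hk
    exact L.smul_comm_el hc hg
  · refine Nat.eq_of_mul_eq_mul_left L.z_pos ?_
    rw [card_subK hF hq L, hzd]
  · intro g hg
    obtain ⟨c, -, rfl⟩ := (mem_subX hF π hq).1 hg
    exact L.elJ_mem hq _
  · intro a ha b hb
    obtain ⟨c, hc, rfl⟩ := (mem_subX hF π hq).1 ha
    obtain ⟨c', hc', rfl⟩ := (mem_subX hF π hq).1 hb
    rw [← elJ_mul hq (isoP_up hF hc) (isoP_up hF hc'), ← elJ_mul hq (isoP_up hF hc') (isoP_up hF hc),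
      up_mul, up_mul, add_comm]
  · refine Nat.eq_of_mul_eq_mul_left L.z_pos ?_
    rw [card_subH hF hq L, ← hzd]; ring
  · intro h hh x hx
    obtain ⟨y, hy, rfl⟩ := (mem_subH hF π hq).1 hh
    obtain ⟨c, hc, rfl⟩ := (mem_subX hF π hq).1 hx
    have hyn : (y * y ^ p ^ n) ^ p ^ n = y * y ^ p ^ n := norm_pow_q hF y
    have hc' : y * y ^ p ^ n * c + (y * y ^ p ^ n * c) ^ p ^ n = 0 := by
      rw [mul_pow _ c, hyn]; linear_combination y * y ^ p ^ n * hc
    refine (mem_subX hF π hq).2 ⟨_, hc', (L.elJ_conj_eq hq (isoP_tor hF hy) (isoP_up hF hc)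
      (isoP_up hF hc')).2 ⟨1, one_pow z, ?_⟩⟩
    have hy' : y ^ p ^ n ≠ 0 := pow_ne_zero _ hy
    simp only [tor, up, one_smul, Matrix.mul_fin_two, fin_two_inj]
    refine ⟨?_, ?_, ?_, ?_⟩ <;> field_simp <;> ring
  · intro h hh
    obtain ⟨y, hy, rfl⟩ := (mem_subH hF π hq).1 hh
    have hy' : (y ^ p ^ n)⁻¹ ≠ 0 := inv_ne_zero (pow_ne_zero _ hy)
    refine (mem_subH hF π hq).2 ⟨_, hy', (L.elJ_conj_eq hq hj (isoP_tor hF hy)
      (isoP_tor hF hy')).2 ⟨1, one_pow z, ?_⟩⟩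
    simp only [tor, jm, one_smul, Matrix.mul_fin_two, fin_two_inj, inv_pow, pow_q_q hF, inv_inv]
    exact ⟨by ring, by ring, by ring, by ring⟩
  · intro x hx hwx
    obtain ⟨c, hc, rfl⟩ := (mem_subX hF π hq).1 hx
    obtain ⟨c', hc', he⟩ := (mem_subX hF π hq).1 hwx
    obtain ⟨ζ, -, e⟩ := (L.elJ_conj_eq hq hj (isoP_up hF hc) (isoP_up hF hc')).1 he
    simp only [up, jm, Matrix.mul_fin_two, Matrix.smul_of, Matrix.smul_cons, Matrix.smul_empty,
      smul_eq_mul, mul_one, one_mul, mul_zero, zero_mul, add_zero, zero_add, fin_two_inj] at e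
    rw [e.2.2.2, show up (0 : F) = 1 by simp [up, Matrix.one_fin_two], elJ_one hq]
  · rw [iel, Ne, L.t_dg, L.el_eq L.pres_i (preserves_dg hF L.pow_q_neg_one L.pow_q_neg_one)]
    rintro ⟨c, -, e⟩
    rw [smul_dg, dg_inj] at e
    exact h2 (by linear_combination e.1 - e.2)
  · intro a ha b hb
    obtain ⟨x, rfl⟩ := ha
    obtain ⟨y, rfl⟩ := hb
    rw [← map_mul, ← map_mul, mul_comm]
  · refine Nat.eq_of_mul_eq_mul_left L.z_pos ?_
    rw [card_subD hF hq L, ← hzd]; ring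

end Lift

end Cfsg.Agent.H68.UThree.Model
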