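import Cfsg.Agent.H68.UThree.Model.Groups
import Cfsg.Agent.S0205

/-!
# The diagonal torus and the involutions
-/

set_option autoImplicit false
set_option linter.unusedSectionVars false
set_option linter.style.haveILetI false

namespace Cfsg.Agent.H68.UThree.Model

open Matrix Cfsg Cfsg.Agent.Unitary
open scoped commutatorElement

universe u v

variable {F : Type v} [Field F] [Fintype F] {q : ℕ}

local notation "M2" => Matrix (Fin 2) (Fin 2) F

variable {G : Type u} [Group G] {hF : Fintype.card F = q ^ 2} {z : ℕ} {t : G} {π : GU 2 F q →* G}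

/-- The involution `diag (1, -1)`. -/
noncomputable def iel (hF : Fintype.card F = q ^ 2) (π : GU 2 F q →* G) : G :=
  el hF π (dg 1 (-1))

/-- The swap. -/
noncomputable def sel (hF : Fintype.card F = q ^ 2) (π : GU 2 F q →* G) : G :=
  el hF π (!![0, 1; 1, 0] : M2)


namespace Lift

variable (L : Lift hF z t π)
include L

theorem norm_one' : (1 : F) * (1 : F) ^ q = 1 := by simp

theorem pres_i : Preserves q (dg (1 : F) (-1)) := preserves_dg hF L.norm_one' L.pow_q_neg_one

theorem el_dg_mul {a b a' b' : F} (ha : a * a ^ q = 1) (hb : b * b ^ q = 1) (ha' : a' * a' ^ q = 1)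
    (hb' : b' * b' ^ q = 1) :
    el hF π (dg a b) * el hF π (dg a' b') = el hF π (dg (a * a') (b * b')) := by
  rw [← el_mul (preserves_dg hF ha hb) (preserves_dg hF ha' hb'), dg_mul]

theorem el_dg_pow {a b : F} (ha : a * a ^ q = 1) (hb : b * b ^ q = 1) (m : ℕ) :
    el hF π (dg a b) ^ m = el hF π (dg (a ^ m) (b ^ m)) := by
  induction m with
  | zero => rw [pow_zero, pow_zero, pow_zero, dg_self, one_smul, el_one]
  | succ m ih =>
    have h : ∀ {c : F}, c * c ^ q = 1 → c ^ m * (c ^ m) ^ q = 1 := fun {c} hc => by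
      rw [← pow_mul, mul_comm m, pow_mul, ← mul_pow, hc, one_pow]
    rw [pow_succ, ih, L.el_dg_mul (h ha) (h hb) ha hb, pow_succ, pow_succ]

theorem el_dg_eq_one {a b : F} (ha : a * a ^ q = 1) (hb : b * b ^ q = 1) :
    el hF π (dg a b) = 1 ↔ a = b ∧ a ^ z = 1 := by
  rw [L.el_eq_one (preserves_dg hF ha hb)]
  constructor
  · rintro ⟨c, hc, e⟩
    rw [← dg_self, dg_inj] at e
    exact ⟨e.1.trans e.2.symm, e.1 ▸ hc⟩
  · rintro ⟨rfl, h⟩
    exact ⟨a, h, dg_self a⟩

theorem el_dg_eq {a b a' b' : F} (ha : a * a ^ q = 1) (hb : b * b ^ q = 1) (ha' : a' * a' ^ q = 1)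
    (hb' : b' * b' ^ q = 1) {c : F} (hc : c ^ z = 1) (h1 : a = c * a') (h2 : b = c * b') :
    el hF π (dg a b) = el hF π (dg a' b') :=
  (L.el_eq (preserves_dg hF ha hb) (preserves_dg hF ha' hb')).2
    ⟨c, hc, by rw [smul_dg, h1, h2]⟩

theorem t_dg : t = el hF π (dg (-1 : F) (-1)) := by rw [dg_self]; exact L.t_el

theorem ti_dg : t * iel hF π = el hF π (dg (-1 : F) 1) := by
  rw [L.t_dg, iel, L.el_dg_mul L.pow_q_neg_one L.pow_q_neg_one L.norm_one' L.pow_q_neg_one]
  simp

theorem sel_conj_dg {a b : F} (ha : a * a ^ q = 1) (hb : b * b ^ q = 1) :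
    sel hF π * el hF π (dg a b) * (sel hF π)⁻¹ = el hF π (dg b a) := by
  rw [sel, L.conj_eq (preserves_swap hF) (preserves_dg hF ha hb) (preserves_dg hF hb ha)]
  exact ⟨1, one_pow z, by simp [dg, Matrix.mul_fin_two]⟩

theorem mem_D_iff (hq : Odd q) {g : G} : g ∈ subD hF π ↔
    g ∈ Subgroup.centralizer ({t} : Set G) ⊓ Subgroup.centralizer ({iel hF π} : Set G) := by
  have h2 := two_ne hF hq
  rw [mem_subD hF π, Subgroup.mem_inf]
  constructor
  · rintro ⟨a, b, ha, hb, rfl⟩
    refine ⟨L.el_mem _, Subgroup.mem_centralizer_singleton_iff.2 ?_⟩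
    rw [iel, L.el_dg_mul ha hb L.norm_one' L.pow_q_neg_one,
      L.el_dg_mul L.norm_one' L.pow_q_neg_one ha hb, mul_comm a, mul_comm b]
  · rintro ⟨hgC, hgi⟩
    obtain ⟨M, hM, rfl⟩ := L.surj hgC
    obtain ⟨c, hc, e⟩ := (L.comm_iff hM L.pres_i).1 (Subgroup.mem_centralizer_singleton_iff.1 hgi)
    have hMe := eq_fin_two M
    generalize M 0 0 = a, M 0 1 = b, M 1 0 = c0, M 1 1 = d at hMe
    subst hMe
    simp only [dg, Matrix.mul_fin_two, Matrix.smul_of, Matrix.smul_cons, Matrix.smul_empty,
      smul_eq_mul, mul_one, one_mul, mul_zero, zero_mul, add_zero, zero_add, fin_two_inj] at e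
    obtain ⟨e1, e2, e3, e4⟩ := e
    have hc1 : c = 1 := by
      by_contra hne
      have ha0 : a = 0 := by
        by_contra ha
        exact hne ((mul_eq_right₀ ha).1 e1.symm)
      obtain ⟨-, hd⟩ := anti_of_zero hF hM (Or.inl ha0)
      have hb : b ≠ 0 := by
        rintro rfl
        obtain ⟨h1, h2', h3, h4⟩ := (preserves_fin_two hF).1 hM
        simp [hd] at h4
      have hcm : c = -1 := mul_right_cancel₀ hb (by linear_combination -e2)
      have h1 : c = 1 := L.root_sq hc (by rw [hcm]; ring)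
      exact hne h1
    subst hc1
    have hb : b = 0 := by
      have : (2 : F) * b = 0 := by linear_combination -e2
      exact (mul_eq_zero.1 this).resolve_left h2
    obtain ⟨-, hc0⟩ := diag_of_zero hF hM (Or.inl hb)
    obtain ⟨h1, -, -, h4⟩ := (preserves_fin_two hF).1 hM
    subst hb hc0
    refine ⟨a, d, ?_, ?_, rfl⟩
    · simpa using h1
    · simpa using h4

/-- Odd subgroups invariant under the torus lie in it: the abelian case. -/
theorem le_D_of_comm (hq : Odd q) {W : Subgroup G} (hW : W ≤ Subgroup.centralizer ({t} : Set G))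
    (hD : ∀ e ∈ subD hF π, ∀ x ∈ W, e * x * e⁻¹ ∈ W) (hc : ∀ x ∈ W, ∀ y ∈ W, x * y = y * x)
    {ξ : F} (hξ : ξ * ξ ^ q = 1) (hξ2 : ξ * ξ ≠ 1) : W ≤ subD hF π := by
  intro x hx
  obtain ⟨M, hM, rfl⟩ := L.surj (hW hx)
  have hMe := eq_fin_two M
  generalize M 0 0 = a, M 0 1 = b, M 1 0 = c0, M 1 1 = d at hMe
  subst hMe
  have hξ0 : ξ ≠ 0 := fun e => by simp [e] at hξ
  have he : el hF π (dg ξ 1) ∈ subD hF π := (mem_subD hF π).2 ⟨ξ, 1, hξ, L.norm_one', rfl⟩
  have hy := hD _ he _ hx
  set M' : M2 := !![a, ξ * b; c0 / ξ, d] with hM'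
  have hdξ := preserves_dg hF hξ L.norm_one'
  have hinv : Preserves q (dg ξ⁻¹ (1 : F)) :=
    preserves_dg hF (by rw [inv_pow, ← mul_inv, hξ, inv_one]) L.norm_one'
  have hM'p : Preserves q M' := by
    have : M' = dg ξ 1 * !![a, b; c0, d] * dg ξ⁻¹ (1 : F) := by
      simp only [hM', dg, Matrix.mul_fin_two, fin_two_inj]
      refine ⟨?_, ?_, ?_, ?_⟩ <;> field_simp <;> ring
    rw [this]
    exact preserves_mul hF (preserves_mul hF hdξ hM) hinv
  have hconj : el hF π (dg ξ 1) * el hF π !![a, b; c0, d] * (el hF π (dg ξ 1))⁻¹ = el hF π M' := by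
    rw [L.conj_eq hdξ hM hM'p]
    refine ⟨1, one_pow z, ?_⟩
    simp only [hM', one_smul, dg, Matrix.mul_fin_two, fin_two_inj]
    refine ⟨?_, ?_, ?_, ?_⟩ <;> field_simp <;> ring
  rw [hconj] at hy
  obtain ⟨c, hcz, e⟩ := (L.comm_iff hM hM'p).1 (hc _ hx _ hy)
  have hc1 : c = 1 := by
    refine L.root_sq hcz ?_
    have h := congrArg Matrix.det e
    rw [Matrix.det_smul, Matrix.det_mul, Matrix.det_mul, Fintype.card_fin, mul_comm M'.det] at h
    have hne : (!![a, b; c0, d] : M2).det * M'.det ≠ 0 :=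
      mul_ne_zero (left_ne_zero_of_mul_eq_one (hM.det_norm hF))
        (left_ne_zero_of_mul_eq_one (hM'p.det_norm hF))
    rw [← pow_two]
    exact mul_right_cancel₀ hne (by rw [one_mul]; exact h.symm)
  subst hc1
  rw [one_smul] at e
  simp only [hM', Matrix.mul_fin_two, fin_two_inj] at e
  obtain ⟨e1, -, -, -⟩ := e
  have h0 : b * c0 * (1 - ξ * ξ) = 0 := by
    have e1' := congrArg (· * ξ) e1
    simp only [add_mul, mul_assoc, div_mul_cancel₀ _ hξ0] at e1'
    linear_combination e1'
  have h0' : b = 0 ∨ c0 = 0 := mul_eq_zero.1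
    ((mul_eq_zero.1 h0).resolve_right (fun h => hξ2 (sub_eq_zero.1 h).symm))
  obtain ⟨hb, hc0⟩ := diag_of_zero hF hM h0'
  obtain ⟨h1, -, -, h4⟩ := (preserves_fin_two hF).1 hM
  subst hb hc0
  exact (mem_subD hF π).2 ⟨a, d, by simpa using h1, by simpa using h4, rfl⟩

/-- Odd subgroups invariant under the torus lie in it. -/
theorem le_D [Finite G] (hq : Odd q) (ht : orderOf t = 2) {ξ : F} (hξ : ξ * ξ ^ q = 1)
    (hξ2 : ξ * ξ ≠ 1) : ∀ W : Subgroup G, W ≤ Subgroup.centralizer ({t} : Set G) →
      Odd (Nat.card W) → (∀ e ∈ subD hF π, ∀ x ∈ W, e * x * e⁻¹ ∈ W) → W ≤ subD hF π := by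
  suffices h : ∀ m : ℕ, ∀ W : Subgroup G, Nat.card W = m →
      W ≤ Subgroup.centralizer ({t} : Set G) → Odd (Nat.card W) →
      (∀ e ∈ subD hF π, ∀ x ∈ W, e * x * e⁻¹ ∈ W) → W ≤ subD hF π from fun W => h _ W rfl
  intro m
  induction m using Nat.strong_induction_on with
  | h m ih =>
    intro W hm hW ho hD
    rcases eq_or_ne W ⊥ with rfl | hne
    · exact bot_le
    haveI : Nontrivial W := (Subgroup.nontrivial_iff_ne_bot W).2 hne
    haveI := S0205.result ho
    set W' : Subgroup G := ⁅W, W⁆ with hW'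
    have hle : W' ≤ W := Subgroup.commutator_le.2 fun a ha b hb => by
      rw [commutatorElement_def]
      exact mul_mem (mul_mem (mul_mem ha hb) (inv_mem ha)) (inv_mem hb)
    have hlt : Nat.card W' < m := by
      rw [← hm]
      refine lt_of_le_of_ne (Nat.le_of_dvd Nat.card_pos (Subgroup.card_dvd_of_le hle)) fun e => ?_
      have h1 : W' = W := Subgroup.eq_of_le_of_card_ge hle e.ge
      have h2 := IsSolvable.commutator_lt_top_of_nontrivial W
      apply h2.ne
      apply Subgroup.map_injective W.subtype_injective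
      rw [Subgroup.map_subtype_commutator, ← MonoidHom.range_eq_map, Subgroup.range_subtype]
      exact h1
    have hW'D : ∀ e ∈ subD hF π, ∀ x ∈ W', e * x * e⁻¹ ∈ W' := by
      intro e he x hx
      have h1 : W.map (MulAut.conj e).toMonoidHom ≤ W := by
        rintro _ ⟨y, hy, rfl⟩; exact hD e he y hy
      have h2 : W'.map (MulAut.conj e).toMonoidHom ≤ W' := by
        rw [hW', Subgroup.map_commutator]
        exact Subgroup.commutator_mono h1 h1
      exact h2 ⟨x, hx, rfl⟩
    have hIH := ih _ hlt W' rfl (hle.trans hW) (ho.of_dvd_nat (Subgroup.card_dvd_of_le hle)) hW'D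
    by_cases hns : ∃ a b : F, a * a ^ q = 1 ∧ b * b ^ q = 1 ∧ a ≠ b ∧ el hF π (dg a b) ∈ W'
    · obtain ⟨α, β, hα, hβ, hαβ, hmem⟩ := hns
      intro x hx
      have hconj : x * el hF π (dg α β) * x⁻¹ ∈ W' := by
        have h2 : W'.map (MulAut.conj x).toMonoidHom ≤ W' := by
          rw [hW', Subgroup.map_commutator]
          refine Subgroup.commutator_mono ?_ ?_ <;>
          · rintro _ ⟨y, hy, rfl⟩
            exact mul_mem (mul_mem hx hy) (inv_mem hx)
        exact h2 ⟨_, hmem, rfl⟩
      obtain ⟨α', β', hα', hβ', e⟩ := (mem_subD hF π).1 (hIH hconj)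
      obtain ⟨M, hM, rfl⟩ := L.surj (hW hx)
      obtain ⟨c, hc, e'⟩ := (L.conj_eq hM (preserves_dg hF hα hβ) (preserves_dg hF hα' hβ')).1 e
      have hMe := eq_fin_two M
      generalize M 0 0 = a, M 0 1 = b, M 1 0 = c0, M 1 1 = d at hMe
      subst hMe
      simp only [dg, Matrix.mul_fin_two, Matrix.smul_of, Matrix.smul_cons, Matrix.smul_empty,
        smul_eq_mul, mul_zero, zero_mul, add_zero, zero_add, fin_two_inj] at e'
      obtain ⟨e1, e2, e3, e4⟩ := e'
      obtain ⟨p1, p2, p3, p4⟩ := (preserves_fin_two hF).1 hM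
      by_cases ha : a = 0
      · obtain ⟨-, hd⟩ := anti_of_zero hF hM (Or.inl ha)
        subst ha hd
        -- the square is diagonal
        have hxx : el hF π !![0, b; c0, 0] ^ 2 ∈ subD hF π := by
          refine (mem_subD hF π).2 ⟨b * c0, c0 * b, ?_, ?_, ?_⟩
          · have h1 : c0 * c0 ^ q = 1 := by simpa using p1
            have h4 : b * b ^ q = 1 := by simpa using p4
            rw [mul_pow, mul_mul_mul_comm, h1, h4, one_mul]
          · have h1 : c0 * c0 ^ q = 1 := by simpa using p1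
            have h4 : b * b ^ q = 1 := by simpa using p4
            rw [mul_pow, mul_mul_mul_comm, h1, h4, one_mul]
          · rw [pow_two, ← el_mul hM hM, Matrix.mul_fin_two]
            simp [dg]
        obtain ⟨k, hk⟩ := exists_pow_eq_self_of_coprime (x := el hF π !![0, b; c0, 0]) (n := 2)
          (Nat.coprime_two_left.2 (ho.of_dvd_nat (Subgroup.orderOf_dvd_natCard _ hx)))
        rw [← hk]
        exact Subgroup.pow_mem _ hxx k
      · have hca : c * α' = α := mul_right_cancel₀ ha (by linear_combination -e1)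
        have hb : b = 0 := by
          have : b * (β - α) = 0 := by rw [← hca]; linear_combination e2
          exact (mul_eq_zero.1 this).resolve_right (fun h => hαβ (sub_eq_zero.1 h).symm)
        obtain ⟨-, hc0⟩ := diag_of_zero hF hM (Or.inl hb)
        subst hb hc0
        exact (mem_subD hF π).2 ⟨a, d, by simpa using p1, by simpa using p4, rfl⟩
    · push Not at hns
      refine L.le_D_of_comm hq hW hD ?_ hξ hξ2
      intro x hx y hy
      have hxy : ⁅x, y⁆ ∈ W' := Subgroup.commutator_mem_commutator hx hy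
      obtain ⟨a, b, ha, hb, e⟩ := (mem_subD hF π).1 (hIH hxy)
      have hab : a = b := by
        by_contra hne'
        exact hns a b ha hb hne' (e ▸ hxy)
      subst hab
      have hty : x * y = el hF π (dg a a) * (y * x) := by
        rw [← e, commutatorElement_def]; group
      obtain ⟨M, hM, rfl⟩ := L.surj (hW hx)
      obtain ⟨N, hN, rfl⟩ := L.surj (hW hy)
      rw [← el_mul hM hN, ← el_mul hN hM, ← el_mul (preserves_dg hF ha ha) (preserves_mul hF hN hM),
        L.el_eq (preserves_mul hF hM hN)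
          (preserves_mul hF (preserves_dg hF ha ha) (preserves_mul hF hN hM))] at hty
      obtain ⟨c, hc, e'⟩ := hty
      rw [dg_self, Matrix.smul_mul, Matrix.one_mul, smul_smul] at e'
      have hdet : (c * a) * (c * a) = 1 := by
        have h := congrArg Matrix.det e'
        rw [Matrix.det_smul, Matrix.det_mul, Matrix.det_mul, Fintype.card_fin, mul_comm N.det] at h
        have hne' : M.det * N.det ≠ 0 := mul_ne_zero (left_ne_zero_of_mul_eq_one (hM.det_norm hF))
          (left_ne_zero_of_mul_eq_one (hN.det_norm hF))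
        rw [← pow_two]
        exact mul_right_cancel₀ hne' (by rw [one_mul]; exact h.symm)
      rcases mul_self_eq_one_iff.1 hdet with h | h
      · rw [h, one_smul] at e'
        rw [← el_mul hM hN, ← el_mul hN hM, e']
      · -- the commutator would be `t`
        exfalso
        have htW : t ∈ W := by
          have hmem : el hF π (dg a a) ∈ W := e ▸ hle hxy
          have e1 : el hF π (dg a a) = t := by
            rw [L.t_dg]
            refine L.el_dg_eq ha ha L.pow_q_neg_one L.pow_q_neg_one (c := c⁻¹)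
              (by rw [inv_pow, hc, inv_one]) ?_ ?_ <;>
            · have hc0 : c ≠ 0 := fun h0 => by rw [h0, zero_mul] at h; simp at h
              rw [← h]; field_simp
          rwa [e1] at hmem
        have h2 := Subgroup.orderOf_dvd_natCard _ htW
        rw [ht] at h2
        exact ho.not_two_dvd_nat h2

end Lift

end Cfsg.Agent.H68.UThree.Model
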